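import Cfsg.Agent.Hexagon.Pos
import Cfsg.Agent.FastGrp
import Cfsg.Agent.Prune
set_option linter.all false
prune_inst 0x7ff1fefffff9fddfffff7fffafdeddfdfffdfffffcfffdcbffea6bffffffff0eedc7f7fd8bfbdbfe5fb7c2be9deefbc3ffffffffea6ffc7ffffdfff49ffbff9ffdf7b58871dc8cbe1fbc0ff703f07fce7f3fffffffffffffffffffffffffffbeffffffffffff
open scoped Cfsg.Agent.FastGrp

-- part: H765/D3/Cub
section
/-!
# S5261: cubic extension `K / F` with `φ` of order three: identities for trace, norm, `t^#` and `s × t`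
-/

set_option autoImplicit false
set_option linter.unusedSectionVars false

namespace Cfsg.Agent.H765.D3

open Cfsg.Agent.Hexagon.Pos
open Cfsg.Agent.Hex.Defs (sh cr nm tr)

variable {F K : Type*} [Field F] [Field K] [Algebra F K]

/-- `φ` is an automorphism of order three of `K` and `F` is its fixed field. -/
class Cub (φ : K ≃ₐ[F] K) : Prop where
  pair : Pair φ
  ne : ∃ t : K, φ t ≠ t

variable (φ : K ≃ₐ[F] K) [Cub φ]

theorem phi3 (t : K) : φ (φ (φ t)) = t := (Cub.pair (φ := φ)).three t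

theorem coe_tr (t : K) : algebraMap F K (tr φ t) = t + φ t + φ (φ t) := algebraMap_tr Cub.pair t

theorem coe_nm (t : K) : algebraMap F K (nm φ t) = t * φ t * φ (φ t) := algebraMap_nm Cub.pair t

theorem phi_coe (s : F) : φ (algebraMap F K s) = algebraMap F K s := φ.commutes s

theorem exists_coe {t : K} (h : φ t = t) : ∃ s : F, algebraMap F K s = t := (Cub.pair (φ := φ)).fixed t h

section Hom
omit [Cub φ]

theorem hp_add (s t : K) : φ (s + t) = φ s + φ t := map_add φ s t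
theorem hp_sub (s t : K) : φ (s - t) = φ s - φ t := map_sub φ s t
theorem hp_mul (s t : K) : φ (s * t) = φ s * φ t := map_mul φ s t
theorem hp_neg (s : K) : φ (-s) = -φ s := map_neg φ s
theorem hp_pow (s : K) (n : ℕ) : φ (s ^ n) = φ s ^ n := map_pow φ s n
theorem hp_one : φ 1 = 1 := map_one φ
theorem hp_zero : φ 0 = 0 := map_zero φ
theorem hp_ofNat (n : ℕ) [n.AtLeastTwo] : φ ofNat(n) = OfNat.ofNat n := map_ofNat φ n
theorem hp_natCast (n : ℕ) : φ (n : K) = n := map_natCast φ n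
theorem ha_ofNat (f : F →+* K) (n : ℕ) [n.AtLeastTwo] : f ofNat(n) = OfNat.ofNat n := map_ofNat f n
theorem ha_natCast (f : F →+* K) (n : ℕ) : f (n : F) = n := map_natCast f n

theorem sm_zero (s : F) : s • (0 : K) = 0 := smul_zero s
theorem zero_sm (t : K) : (0 : F) • t = 0 := zero_smul F t

end Hom

/-- the simp set for `F`-valued identities -/
macro "cub" : tactic => `(tactic|
  (simp only [map_add, map_sub, map_mul, map_neg, map_pow, map_one, map_zero, map_ofNat, map_natCast, coe_tr, coe_nm,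
      sh, cr, phi3, phi_coe, Algebra.smul_def]; try ring))

local macro_rules | `(tactic| cub) => `(tactic|
  (simp only [hp_add, hp_sub, hp_mul, hp_neg, hp_pow, hp_one, hp_zero, hp_ofNat, hp_natCast, RingHom.map_add, RingHom.map_sub,
      RingHom.map_mul, RingHom.map_neg, RingHom.map_pow, RingHom.map_one, RingHom.map_zero, ha_ofNat, ha_natCast, coe_tr, coe_nm,
      sh, cr, phi3, phi_coe, Algebra.smul_def]; try ring))

theorem tr_add (s t : K) : tr φ (s + t) = tr φ s + tr φ t := by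
  apply (algebraMap F K).injective; cub

theorem tr_neg (t : K) : tr φ (-t) = -tr φ t := by
  apply (algebraMap F K).injective; cub

theorem tr_sub (s t : K) : tr φ (s - t) = tr φ s - tr φ t := by
  apply (algebraMap F K).injective; cub

theorem tr_smul (s : F) (t : K) : tr φ (s • t) = s * tr φ t := by
  apply (algebraMap F K).injective; cub

theorem tr_zero : tr φ 0 = 0 := by
  apply (algebraMap F K).injective; cub

theorem tr_phi (t : K) : tr φ (φ t) = tr φ t := by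
  apply (algebraMap F K).injective; cub

theorem nm_mul (s t : K) : nm φ (s * t) = nm φ s * nm φ t := by
  apply (algebraMap F K).injective; cub

theorem nm_zero : nm φ 0 = 0 := by
  apply (algebraMap F K).injective; cub

theorem nm_one : nm φ 1 = 1 := by
  apply (algebraMap F K).injective; cub

theorem nm_neg (t : K) : nm φ (-t) = -nm φ t := by
  apply (algebraMap F K).injective; cub

theorem nm_smul (s : F) (t : K) : nm φ (s • t) = s ^ 3 * nm φ t := by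
  apply (algebraMap F K).injective; cub

theorem tr_sh_mul (t : K) : tr φ (sh φ t * t) = 3 * nm φ t := by
  apply (algebraMap F K).injective; cub

theorem sh_add (s t : K) : sh φ (s + t) = sh φ s + cr φ s t + sh φ t := by cub

theorem sh_smul (s : F) (t : K) : sh φ (s • t) = s ^ 2 • sh φ t := by cub

theorem sh_mul (s t : K) : sh φ (s * t) = sh φ s * sh φ t := by cub

theorem sh_zero : sh φ 0 = 0 := by cub

theorem sh_neg (t : K) : sh φ (-t) = sh φ t := by cub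

theorem sh_mul_self (t : K) : sh φ t * t = algebraMap F K (nm φ t) := by cub

theorem sh_sh (t : K) : sh φ (sh φ t) = nm φ t • t := by cub

theorem cr_comm (s t : K) : cr φ s t = cr φ t s := by cub

theorem cr_add_left (s s' t : K) : cr φ (s + s') t = cr φ s t + cr φ s' t := by cub

theorem cr_add_right (s t t' : K) : cr φ s (t + t') = cr φ s t + cr φ s t' := by cub

theorem cr_smul_left (u : F) (s t : K) : cr φ (u • s) t = u • cr φ s t := by cub

theorem cr_smul_right (u : F) (s t : K) : cr φ s (u • t) = u • cr φ s t := by cub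

theorem cr_neg_right (s t : K) : cr φ s (-t) = -cr φ s t := by cub

theorem cr_zero_left (t : K) : cr φ 0 t = 0 := by cub

theorem cr_zero_right (t : K) : cr φ t 0 = 0 := by cub

theorem cr_self (t : K) : cr φ t t = 2 * sh φ t := by cub

/-- the trilinear form is symmetric -/
theorem tr_cr (s t r : K) : tr φ (cr φ s t * r) = tr φ (s * cr φ t r) := by
  apply (algebraMap F K).injective; cub

theorem cr_one_left (t : K) : cr φ 1 t = algebraMap F K (tr φ t) - t := by cub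

theorem sh_eq_zero {t : K} : sh φ t = 0 ↔ t = 0 := by
  rw [sh, mul_eq_zero]
  simp

theorem nm_eq_zero {t : K} : nm φ t = 0 ↔ t = 0 := by
  constructor
  · intro h
    have := coe_nm φ t
    rw [h, map_zero] at this
    have h2 : t * φ t * φ (φ t) = 0 := this.symm
    simpa [mul_eq_zero] using h2
  · rintro rfl
    exact nm_zero φ

/-- the trace form is nondegenerate -/
theorem exists_tr_ne : ∃ s : K, tr φ s ≠ 0 := by
  by_contra hcon
  push Not at hcon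
  have h0 : ∀ s : K, s + φ s + φ (φ s) = 0 := fun s => by
    rw [← coe_tr, hcon, map_zero]
  obtain ⟨θ, hθ⟩ := Cub.ne (φ := φ)
  have h1 := h0 1
  rw [map_one, map_one] at h1
  have h2 := h0 θ
  have h3 : ∀ s : K, (φ θ - θ) * (φ s - φ (φ s)) = 0 := fun s => by
    have e1 := h0 (s * θ)
    rw [map_mul, map_mul] at e1
    have e2 := h0 s
    linear_combination e1 - θ * e2 - φ (φ s) * h2 + φ (φ s) * θ * h1
  apply hθ
  have h4 := (mul_eq_zero.1 (h3 θ)).resolve_left (sub_ne_zero.2 hθ)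
  have h5 : φ θ = φ (φ θ) := sub_eq_zero.1 h4
  exact (φ.injective h5).symm

theorem tr_nondeg {a : K} (h : ∀ t : K, tr φ (a * t) = 0) : a = 0 := by
  by_contra ha
  obtain ⟨s, hs⟩ := exists_tr_ne φ
  exact hs (by rw [← h (a⁻¹ * s), mul_inv_cancel_left₀ ha])

end Cfsg.Agent.H765.D3
end

-- part: H765/D3/Model
section
/-!
# S5261: the concrete Sylow `p`-subgroup of `³D₄(q)`

`Sy φ`: tuples with coordinates `x1 x3 x5 : K`, `x2 x4 x6 : F`, standing for
`u6 x6 * u5 x5 * u3 x3 * u2 x2 * u4 x4 * u1 x1`, with explicit multiplication.  Hexagon labels of the roots: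
`u1` short simple root `α`, `u6` long simple root `β`, `u5 : α+β`, `u3 : 2α+β`, `u2 : 3α+β`, `u4 : 3α+2β`.
Subgroups `Z1 = U4 < Z2 = U2 U4 < Z3 = U3 U2 U4 < Z4 = U5 U3 U2 U4`, `Q1 = U6 Z4`, `Q2 = U1 Z4`.
(Compared with the library structure `HexPos`: `u5 c = x5 (-c)`, the other maps are the same.)
-/

set_option autoImplicit false
set_option linter.unusedSectionVars false

namespace Cfsg.Agent.H765.D3

open Cfsg.Agent.Hexagon.Pos
open Cfsg.Agent.Hex.Defs (sh cr nm tr)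
open scoped commutatorElement

variable {F K : Type*} [Field F] [Field K] [Algebra F K]

local macro_rules | `(tactic| cub) => `(tactic|
  (simp only [hp_add, hp_sub, hp_mul, hp_neg, hp_pow, hp_one, hp_zero, hp_ofNat, hp_natCast, RingHom.map_add, RingHom.map_sub,
      RingHom.map_mul, RingHom.map_neg, RingHom.map_pow, RingHom.map_one, RingHom.map_zero, ha_ofNat, ha_natCast, coe_tr, coe_nm,
      sh, cr, phi3, phi_coe, Algebra.smul_def]; try ring))

/-- The set of tuples. -/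
@[ext] structure Sy (φ : K ≃ₐ[F] K) where
  x1 : K
  x6 : F
  x5 : K
  x3 : K
  x2 : F
  x4 : F

namespace Sy

variable {φ : K ≃ₐ[F] K}

noncomputable instance : Mul (Sy φ) := ⟨fun x y =>
  { x1 := x.x1 + y.x1
    x6 := x.x6 + y.x6
    x5 := x.x5 + y.x5 + y.x6 • x.x1
    x3 := x.x3 + y.x3 + cr φ x.x1 y.x5 + y.x6 • sh φ x.x1
    x2 := x.x2 + y.x2 + tr φ (x.x1 * y.x3) + tr φ (sh φ x.x1 * y.x5) + y.x6 * nm φ x.x1
    x4 := x.x4 + y.x4 + y.x6 ^ 2 * nm φ x.x1 + tr φ (x.x1 * sh φ y.x5) + y.x6 * tr φ (sh φ x.x1 * y.x5) - x.x2 * y.x6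
      + tr φ (x.x3 * (y.x5 + y.x6 • x.x1)) }⟩

instance : One (Sy φ) := ⟨{ x1 := 0, x6 := 0, x5 := 0, x3 := 0, x2 := 0, x4 := 0 }⟩

noncomputable instance : Inv (Sy φ) := ⟨fun x =>
  { x1 := -x.x1
    x6 := -x.x6
    x5 := -x.x5 + x.x6 • x.x1
    x3 := -x.x3 + cr φ x.x1 x.x5 - x.x6 • sh φ x.x1
    x2 := -x.x2 + tr φ (x.x1 * x.x3) - tr φ (sh φ x.x1 * x.x5) + x.x6 * nm φ x.x1
    x4 := -x.x4 + x.x6 ^ 2 * nm φ x.x1 + tr φ (x.x1 * sh φ x.x5) - x.x6 * tr φ (sh φ x.x1 * x.x5)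
      + (-x.x2 + tr φ (x.x1 * x.x3) - tr φ (sh φ x.x1 * x.x5) + x.x6 * nm φ x.x1) * x.x6
      - tr φ ((-x.x3 + cr φ x.x1 x.x5 - x.x6 • sh φ x.x1) * (x.x5 - x.x6 • x.x1)) }⟩

theorem mul_x1 (x y : Sy φ) : (x * y).x1 = x.x1 + y.x1 := rfl
theorem mul_x6 (x y : Sy φ) : (x * y).x6 = x.x6 + y.x6 := rfl
theorem mul_x5 (x y : Sy φ) : (x * y).x5 = x.x5 + y.x5 + y.x6 • x.x1 := rfl
theorem mul_x3 (x y : Sy φ) : (x * y).x3 = x.x3 + y.x3 + cr φ x.x1 y.x5 + y.x6 • sh φ x.x1 := rfl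
theorem mul_x2 (x y : Sy φ) :
    (x * y).x2 = x.x2 + y.x2 + tr φ (x.x1 * y.x3) + tr φ (sh φ x.x1 * y.x5) + y.x6 * nm φ x.x1 := rfl
theorem mul_x4 (x y : Sy φ) :
    (x * y).x4 = x.x4 + y.x4 + y.x6 ^ 2 * nm φ x.x1 + tr φ (x.x1 * sh φ y.x5) + y.x6 * tr φ (sh φ x.x1 * y.x5) - x.x2 * y.x6
      + tr φ (x.x3 * (y.x5 + y.x6 • x.x1)) := rfl

@[simp] theorem one_x1 : (1 : Sy φ).x1 = 0 := rfl
@[simp] theorem one_x6 : (1 : Sy φ).x6 = 0 := rfl
@[simp] theorem one_x5 : (1 : Sy φ).x5 = 0 := rfl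
@[simp] theorem one_x3 : (1 : Sy φ).x3 = 0 := rfl
@[simp] theorem one_x2 : (1 : Sy φ).x2 = 0 := rfl
@[simp] theorem one_x4 : (1 : Sy φ).x4 = 0 := rfl

theorem inv_x1 (x : Sy φ) : (x⁻¹).x1 = -x.x1 := rfl
theorem inv_x6 (x : Sy φ) : (x⁻¹).x6 = -x.x6 := rfl
theorem inv_x5 (x : Sy φ) : (x⁻¹).x5 = -x.x5 + x.x6 • x.x1 := rfl
theorem inv_x3 (x : Sy φ) : (x⁻¹).x3 = -x.x3 + cr φ x.x1 x.x5 - x.x6 • sh φ x.x1 := rfl
theorem inv_x2 (x : Sy φ) : (x⁻¹).x2 = -x.x2 + tr φ (x.x1 * x.x3) - tr φ (sh φ x.x1 * x.x5) + x.x6 * nm φ x.x1 := rfl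
theorem inv_x4 (x : Sy φ) : (x⁻¹).x4 = -x.x4 + x.x6 ^ 2 * nm φ x.x1 + tr φ (x.x1 * sh φ x.x5)
      - x.x6 * tr φ (sh φ x.x1 * x.x5)
      + (-x.x2 + tr φ (x.x1 * x.x3) - tr φ (sh φ x.x1 * x.x5) + x.x6 * nm φ x.x1) * x.x6
      - tr φ ((-x.x3 + cr φ x.x1 x.x5 - x.x6 • sh φ x.x1) * (x.x5 - x.x6 • x.x1)) := rfl

variable [Cub φ]

theorem mul_assoc' (x y z : Sy φ) : x * y * z = x * (y * z) := by
  ext
  · rw [mul_x1, mul_x1, mul_x1, mul_x1]; ring
  · rw [mul_x6, mul_x6, mul_x6, mul_x6]; ring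
  · rw [mul_x5, mul_x5, mul_x5, mul_x5, mul_x1, mul_x6]; cub
  · rw [mul_x3, mul_x3, mul_x3, mul_x3, mul_x1, mul_x6, mul_x5]; cub
  · rw [mul_x2, mul_x2, mul_x2, mul_x2, mul_x1, mul_x6, mul_x5, mul_x3]
    apply (algebraMap F K).injective
    cub
  · rw [mul_x4, mul_x4, mul_x4, mul_x4, mul_x1, mul_x6, mul_x5, mul_x3, mul_x2]
    apply (algebraMap F K).injective
    cub

theorem one_mul' (x : Sy φ) : 1 * x = x := by
  ext
  · rw [mul_x1]; simp
  · rw [mul_x6]; simp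
  · rw [mul_x5]; simp
  · rw [mul_x3, one_x3, one_x1]; cub
  · rw [mul_x2, one_x2, one_x1]
    apply (algebraMap F K).injective
    cub
  · rw [mul_x4, one_x4, one_x1, one_x2, one_x3]
    apply (algebraMap F K).injective
    cub

theorem inv_mul' (x : Sy φ) : x⁻¹ * x = 1 := by
  ext
  · rw [mul_x1, inv_x1]; simp
  · rw [mul_x6, inv_x6]; simp
  · rw [mul_x5, inv_x5, inv_x1, one_x5]; cub
  · rw [mul_x3, inv_x3, inv_x1, one_x3]; cub
  · rw [mul_x2, inv_x2, inv_x1, one_x2]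
    apply (algebraMap F K).injective
    cub
  · rw [mul_x4, inv_x4, inv_x1, inv_x2, inv_x3, one_x4]
    apply (algebraMap F K).injective
    cub

noncomputable instance : Group (Sy φ) := Group.ofLeftAxioms mul_assoc' one_mul' inv_mul'

theorem mul_def (x y : Sy φ) : x * y =
  { x1 := x.x1 + y.x1
    x6 := x.x6 + y.x6
    x5 := x.x5 + y.x5 + y.x6 • x.x1
    x3 := x.x3 + y.x3 + cr φ x.x1 y.x5 + y.x6 • sh φ x.x1
    x2 := x.x2 + y.x2 + tr φ (x.x1 * y.x3) + tr φ (sh φ x.x1 * y.x5) + y.x6 * nm φ x.x1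
    x4 := x.x4 + y.x4 + y.x6 ^ 2 * nm φ x.x1 + tr φ (x.x1 * sh φ y.x5) + y.x6 * tr φ (sh φ x.x1 * y.x5) - x.x2 * y.x6
      + tr φ (x.x3 * (y.x5 + y.x6 • x.x1)) } := rfl

/-- the coordinates -/
def equiv (φ : K ≃ₐ[F] K) : Sy φ ≃ K × F × K × K × F × F where
  toFun x := (x.x1, x.x6, x.x5, x.x3, x.x2, x.x4)
  invFun v := ⟨v.1, v.2.1, v.2.2.1, v.2.2.2.1, v.2.2.2.2.1, v.2.2.2.2.2⟩
  left_inv _ := rfl
  right_inv _ := rfl

instance [Finite K] [Finite F] : Finite (Sy φ) := Finite.of_equiv _ (equiv φ).symm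

theorem card_eq [Finite K] [Finite F] : Nat.card (Sy φ) = Nat.card K ^ 3 * Nat.card F ^ 3 := by
  rw [Nat.card_congr (equiv φ)]
  simp only [Nat.card_prod]
  ring

/-! ### Root groups -/

set_option linter.unusedVariables false in
def u1 (φ : K ≃ₐ[F] K) (a : K) : Sy φ := ⟨a, 0, 0, 0, 0, 0⟩
def u6 (φ : K ≃ₐ[F] K) (u : F) : Sy φ := ⟨0, u, 0, 0, 0, 0⟩
def u5 (φ : K ≃ₐ[F] K) (c : K) : Sy φ := ⟨0, 0, c, 0, 0, 0⟩
def u3 (φ : K ≃ₐ[F] K) (b : K) : Sy φ := ⟨0, 0, 0, b, 0, 0⟩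
def u2 (φ : K ≃ₐ[F] K) (t : F) : Sy φ := ⟨0, 0, 0, 0, t, 0⟩
def u4 (φ : K ≃ₐ[F] K) (w : F) : Sy φ := ⟨0, 0, 0, 0, 0, w⟩

set_option linter.unusedVariables false in
theorem FK_inj (φ : K ≃ₐ[F] K) {s t : F} (h : algebraMap F K s = algebraMap F K t) : s = t :=
  (algebraMap F K).injective h

/-- the tactic for identities of products of explicit elements -/
macro "sy" f:term : tactic => `(tactic|
  (ext <;> simp only [mul_def, u1, u6, u5, u3, u2, u4, one_x1, one_x6, one_x5, one_x3, one_x2, one_x4] <;>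
    first
    | (apply FK_inj $f; cub; done)
    | (cub; done)
    | (ring; done)))

/-- the tactic for coordinate identities over `F` -/
macro "fk" f:term : tactic => `(tactic| (apply FK_inj $f; cub; done))

local macro_rules | `(tactic| sy $f) => `(tactic|
  (simp only [Sy.ext_iff, true_and, and_true, mul_def, u1, u6, u5, u3, u2, u4, one_x1, one_x6, one_x5, one_x3, one_x2, one_x4, zero_add, add_zero,
      mul_zero, zero_mul, sub_zero, sm_zero, zero_sm, cr_zero_left, cr_zero_right, sh_zero, tr_zero, nm_zero] <;> (repeat' apply And.intro) <;>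
    first
    | (apply FK_inj $f; cub; done)
    | (cub; done)
    | (ring; done)))

theorem k16 (a : K) (u : F) : u1 φ a * u6 φ u =
    u6 φ u * u5 φ (u • a) * u3 φ (u • sh φ a) * u2 φ (u * nm φ a) * u4 φ (u ^ 2 * nm φ a) * u1 φ a := by
  sy φ

theorem k15 (a c : K) : u1 φ a * u5 φ c =
    u5 φ c * u3 φ (cr φ a c) * u2 φ (tr φ (sh φ a * c)) * u4 φ (tr φ (a * sh φ c)) * u1 φ a := by
  sy φ

theorem k13 (a b : K) : u1 φ a * u3 φ b = u3 φ b * u2 φ (tr φ (a * b)) * u1 φ a := by sy φ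
theorem k12 (a : K) (t : F) : u1 φ a * u2 φ t = u2 φ t * u1 φ a := by sy φ
theorem k14 (a : K) (w : F) : u1 φ a * u4 φ w = u4 φ w * u1 φ a := by sy φ
theorem k56 (u : F) (c : K) : u6 φ u * u5 φ c = u5 φ c * u6 φ u := by sy φ
theorem k36 (u : F) (b : K) : u6 φ u * u3 φ b = u3 φ b * u6 φ u := by sy φ
theorem k26 (u t : F) : u2 φ t * u6 φ u = u6 φ u * u2 φ t * u4 φ (-(t * u)) := by sy φ
theorem k46 (u w : F) : u6 φ u * u4 φ w = u4 φ w * u6 φ u := by sy φ
theorem k35 (c b : K) : u3 φ b * u5 φ c = u5 φ c * u3 φ b * u4 φ (tr φ (b * c)) := by sy φ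
theorem k25 (c : K) (t : F) : u5 φ c * u2 φ t = u2 φ t * u5 φ c := by sy φ
theorem k45 (c : K) (w : F) : u5 φ c * u4 φ w = u4 φ w * u5 φ c := by sy φ
theorem k23 (b : K) (t : F) : u3 φ b * u2 φ t = u2 φ t * u3 φ b := by sy φ
theorem k34 (b : K) (w : F) : u3 φ b * u4 φ w = u4 φ w * u3 φ b := by sy φ
theorem k24 (t w : F) : u2 φ t * u4 φ w = u4 φ w * u2 φ t := by sy φ

theorem u1_add (s t : K) : u1 φ (s + t) = u1 φ s * u1 φ t := by sy φ
theorem u6_add (s t : F) : u6 φ (s + t) = u6 φ s * u6 φ t := by sy φ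
theorem u5_add (s t : K) : u5 φ (s + t) = u5 φ s * u5 φ t := by sy φ
theorem u3_add (s t : K) : u3 φ (s + t) = u3 φ s * u3 φ t := by sy φ
theorem u2_add (s t : F) : u2 φ (s + t) = u2 φ s * u2 φ t := by sy φ
theorem u4_add (s t : F) : u4 φ (s + t) = u4 φ s * u4 φ t := by sy φ

/-- normal form -/
theorem eq_prod (x : Sy φ) :
    x = u6 φ x.x6 * u5 φ x.x5 * u3 φ x.x3 * u2 φ x.x2 * u4 φ x.x4 * u1 φ x.x1 := by sy φ

/-! ### Subgroups -/

variable (φ) in
/-- `Q1 = U2 U3 U4 U5 U6` -/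
def Q1 : Subgroup (Sy φ) where
  carrier := {x | x.x1 = 0}
  one_mem' := rfl
  mul_mem' {x y} hx hy := by
    simp only [Set.mem_ofPred_eq] at hx hy ⊢
    rw [mul_x1, hx, hy, add_zero]
  inv_mem' {x} hx := by
    simp only [Set.mem_ofPred_eq] at hx ⊢
    rw [inv_x1, hx, neg_zero]

variable (φ) in
/-- `Q2 = U1 U2 U3 U4 U5` -/
def Q2 : Subgroup (Sy φ) where
  carrier := {x | x.x6 = 0}
  one_mem' := rfl
  mul_mem' {x y} hx hy := by
    simp only [Set.mem_ofPred_eq] at hx hy ⊢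
    rw [mul_x6, hx, hy, add_zero]
  inv_mem' {x} hx := by
    simp only [Set.mem_ofPred_eq] at hx ⊢
    rw [inv_x6, hx, neg_zero]

variable (φ) in
/-- `Z4 = u5 u3 u2 u4` -/
def Z4 : Subgroup (Sy φ) where
  carrier := {x | x.x1 = 0 ∧ x.x6 = 0}
  one_mem' := ⟨rfl, rfl⟩
  mul_mem' {x y} hx hy := by
    simp only [Set.mem_ofPred_eq] at hx hy ⊢
    rw [mul_x1, mul_x6, hx.1, hy.1, hx.2, hy.2, add_zero, add_zero]
    exact ⟨rfl, rfl⟩
  inv_mem' {x} hx := by
    simp only [Set.mem_ofPred_eq] at hx ⊢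
    rw [inv_x1, inv_x6, hx.1, hx.2, neg_zero, neg_zero]
    exact ⟨rfl, rfl⟩

variable (φ) in
/-- `Z3 = u3 u2 u4` -/
def Z3 : Subgroup (Sy φ) where
  carrier := {x | x.x1 = 0 ∧ x.x6 = 0 ∧ x.x5 = 0}
  one_mem' := ⟨rfl, rfl, rfl⟩
  mul_mem' {x y} hx hy := by
    simp only [Set.mem_ofPred_eq] at hx hy ⊢
    rw [mul_x1, mul_x6, mul_x5, hx.1, hy.1, hx.2.1, hy.2.1, hx.2.2, hy.2.2]
    simp
  inv_mem' {x} hx := by
    simp only [Set.mem_ofPred_eq] at hx ⊢
    rw [inv_x1, inv_x6, inv_x5, hx.1, hx.2.1, hx.2.2]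
    simp

variable (φ) in
/-- `Z2 = u2 u4` -/
def Z2 : Subgroup (Sy φ) where
  carrier := {x | x.x1 = 0 ∧ x.x6 = 0 ∧ x.x5 = 0 ∧ x.x3 = 0}
  one_mem' := ⟨rfl, rfl, rfl, rfl⟩
  mul_mem' {x y} hx hy := by
    simp only [Set.mem_ofPred_eq] at hx hy ⊢
    rw [mul_x1, mul_x6, mul_x5, mul_x3, hx.1, hy.1, hx.2.1, hy.2.1, hx.2.2.1, hy.2.2.1, hx.2.2.2, hy.2.2.2]
    simp [cr]
  inv_mem' {x} hx := by
    simp only [Set.mem_ofPred_eq] at hx ⊢
    rw [inv_x1, inv_x6, inv_x5, inv_x3, hx.1, hx.2.1, hx.2.2.1, hx.2.2.2]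
    simp only [cr, _root_.neg_zero, _root_.smul_zero, _root_.add_zero, _root_.map_zero, _root_.MulZeroClass.mul_zero, _root_.zero_smul, _root_.sub_self, _root_.and_self]

variable (φ) in
/-- `Z1 = u4` -/
def Z1 : Subgroup (Sy φ) where
  carrier := {x | x.x1 = 0 ∧ x.x6 = 0 ∧ x.x5 = 0 ∧ x.x3 = 0 ∧ x.x2 = 0}
  one_mem' := ⟨rfl, rfl, rfl, rfl, rfl⟩
  mul_mem' {x y} hx hy := by
    simp only [Set.mem_ofPred_eq] at hx hy ⊢
    obtain ⟨h1, h2, h3, h4, h5⟩ := hx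
    obtain ⟨h1', h2', h3', h4', h5'⟩ := hy
    rw [mul_x1, mul_x6, mul_x5, mul_x3, mul_x2, h1, h2, h3, h4, h5, h1', h2', h3', h4', h5']
    simp only [cr, tr_zero, _root_.add_zero, _root_.smul_zero, _root_.map_zero, _root_.MulZeroClass.mul_zero, _root_.zero_smul, _root_.MulZeroClass.zero_mul, _root_.and_self]
  inv_mem' {x} hx := by
    simp only [Set.mem_ofPred_eq] at hx ⊢
    obtain ⟨h1, h2, h3, h4, h5⟩ := hx
    rw [inv_x1, inv_x6, inv_x5, inv_x3, inv_x2, h1, h2, h3, h4, h5]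
    simp [cr, tr_zero]

theorem mem_Q1 {x : Sy φ} : x ∈ Q1 φ ↔ x.x1 = 0 := Iff.rfl
theorem mem_Q2 {x : Sy φ} : x ∈ Q2 φ ↔ x.x6 = 0 := Iff.rfl
theorem mem_Z3 {x : Sy φ} : x ∈ Z3 φ ↔ x.x1 = 0 ∧ x.x6 = 0 ∧ x.x5 = 0 := Iff.rfl
theorem mem_Z2 {x : Sy φ} : x ∈ Z2 φ ↔ x.x1 = 0 ∧ x.x6 = 0 ∧ x.x5 = 0 ∧ x.x3 = 0 := Iff.rfl
theorem Z1_le_Z2 : Z1 φ ≤ Z2 φ := fun _ h => ⟨h.1, h.2.1, h.2.2.1, h.2.2.2.1⟩
theorem Z2_le_Z3 : Z2 φ ≤ Z3 φ := fun _ h => ⟨h.1, h.2.1, h.2.2.1⟩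
theorem Z3_le_Z4 : Z3 φ ≤ Z4 φ := fun _ h => ⟨h.1, h.2.1⟩
theorem Z4_le_Q1 : Z4 φ ≤ Q1 φ := fun _ h => h.1
theorem Z4_le_Q2 : Z4 φ ≤ Q2 φ := fun _ h => h.2
theorem Q1_inf_Q2 : Q1 φ ⊓ Q2 φ = Z4 φ := rfl

/-- `x y = z y x` for the commutator `z` -/
theorem comm_mul (x y : Sy φ) : x * y = ⁅x, y⁆ * (y * x) := by
  rw [commutatorElement_def]; group

theorem comm_eq {x y z : Sy φ} (h : x * y = z * (y * x)) : ⁅x, y⁆ = z := by
  have := comm_mul x y
  rw [h] at this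
  exact (mul_right_cancel this).symm

theorem comm_x1 (x y : Sy φ) : (⁅x, y⁆).x1 = 0 := by
  have := congrArg Sy.x1 (comm_mul x y)
  rw [mul_x1, mul_x1, mul_x1] at this
  linear_combination -this

theorem comm_x6 (x y : Sy φ) : (⁅x, y⁆).x6 = 0 := by
  have := congrArg Sy.x6 (comm_mul x y)
  rw [mul_x6, mul_x6, mul_x6] at this
  linear_combination -this

theorem comm_mem_Z4 (x y : Sy φ) : ⁅x, y⁆ ∈ Z4 φ := ⟨comm_x1 x y, comm_x6 x y⟩

theorem comm_x5 (x y : Sy φ) : (⁅x, y⁆).x5 = y.x6 • x.x1 - x.x6 • y.x1 := by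
  have := congrArg Sy.x5 (comm_mul x y)
  rw [mul_x5, mul_x5, mul_x5, comm_x1, smul_zero] at this
  linear_combination -this

/-- `y ∈ Z4`: the commutator lies in `Z3` and has `b = x.x1 × y.x5`, `t = T(x.x1, y.x3) + T(x.x1^#, y.x5)` -/
theorem comm_mem_Z3 {x y : Sy φ} (hy : y ∈ Z4 φ) : ⁅x, y⁆ ∈ Z3 φ :=
  ⟨comm_x1 x y, comm_x6 x y, by rw [comm_x5, hy.1, hy.2]; simp⟩

theorem comm_x3 {x y : Sy φ} (hy : y ∈ Z4 φ) : (⁅x, y⁆).x3 = cr φ x.x1 y.x5 := by
  have := congrArg Sy.x3 (comm_mul x y)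
  rw [mul_x3, mul_x3, mul_x3, comm_x1, hy.1, hy.2] at this
  simp only [cr_zero_left, sh_zero, smul_zero, zero_smul, add_zero] at this
  linear_combination -this

theorem comm_x2 {x y : Sy φ} (hy : y ∈ Z4 φ) :
    (⁅x, y⁆).x2 = tr φ (x.x1 * y.x3) + tr φ (sh φ x.x1 * y.x5) := by
  have := congrArg Sy.x2 (comm_mul x y)
  rw [mul_x2, mul_x2, mul_x2, comm_x1, hy.1, hy.2] at this
  simp only [sh_zero, nm_zero, zero_mul, mul_zero, tr_zero, add_zero] at this
  linear_combination -this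

theorem comm_mem_Z2 {x y : Sy φ} (hy : y ∈ Z3 φ) : ⁅x, y⁆ ∈ Z2 φ :=
  ⟨comm_x1 x y, comm_x6 x y, by rw [comm_x5, hy.1, hy.2.1]; simp, by
    rw [comm_x3 (Z3_le_Z4 hy), hy.2.2, cr_zero_right]⟩

theorem comm_x2' {x y : Sy φ} (hy : y ∈ Z3 φ) : (⁅x, y⁆).x2 = tr φ (x.x1 * y.x3) := by
  rw [comm_x2 (Z3_le_Z4 hy), hy.2.2, mul_zero, tr_zero, add_zero]

theorem comm_x4' {x y : Sy φ} (hy : y ∈ Z3 φ) :
    (⁅x, y⁆).x4 = x.x6 * y.x2 - tr φ (y.x3 * x.x5) + x.x6 * tr φ (x.x1 * y.x3) := by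
  have h1 := congrArg Sy.x4 (comm_mul x y)
  have h2 := comm_mem_Z2 (x := x) hy
  rw [mul_x4, mul_x4, mul_x4, h2.1, comm_x2' hy, h2.2.2.2, hy.1, hy.2.1, hy.2.2] at h1
  simp only [sh_zero, nm_zero, zero_mul, mul_zero, tr_zero, add_zero, sub_zero, zero_smul, mul_x6, mul_x5,
    hy.2.1, hy.2.2, hy.1, smul_zero, zero_add] at h1
  linear_combination -h1

/-- commutators of `Z2` with `S` -/
theorem comm_Z2 {x y : Sy φ} (hy : y ∈ Z2 φ) : ⁅x, y⁆ = u4 φ (x.x6 * y.x2) := by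
  have hy' := Z2_le_Z3 hy
  have h2 := comm_mem_Z2 (x := x) hy'
  ext
  · exact h2.1
  · exact h2.2.1
  · exact h2.2.2.1
  · exact h2.2.2.2
  · rw [comm_x2' hy', hy.2.2.2, mul_zero, tr_zero]; rfl
  · rw [comm_x4' hy', hy.2.2.2, mul_zero, zero_mul, tr_zero]
    simp [u4]

theorem comm_Z1 {x y : Sy φ} (hy : y ∈ Z1 φ) : ⁅x, y⁆ = 1 := by
  rw [comm_Z2 (Z1_le_Z2 hy), hy.2.2.2.2, mul_zero]; rfl

/-- the symplectic form on `Q1 / Z1` -/
noncomputable def form (x y : Sy φ) : F :=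
  x.x6 * y.x2 - x.x2 * y.x6 - tr φ (x.x5 * y.x3) + tr φ (x.x3 * y.x5)

/-- commutators in `Q1` -/
theorem comm_Q1 {x y : Sy φ} (hx : x ∈ Q1 φ) (hy : y ∈ Q1 φ) : ⁅x, y⁆ = u4 φ (form x y) := by
  have hx' : x.x1 = 0 := hx
  have hy' : y.x1 = 0 := hy
  apply comm_eq
  ext
  · simp only [mul_def, u4]; rw [hx', hy']; ring
  · simp only [mul_def, u4]; ring
  · simp only [mul_def, u4, hx', hy']; cub
  · simp only [mul_def, u4, hx', hy']; cub
  · simp only [mul_def, u4, hx', hy']; apply (algebraMap F K).injective; cub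
  · simp only [mul_def, u4, hx', hy', form]; apply (algebraMap F K).injective; cub

instance : (Q1 φ).Normal := ⟨fun x hx g => by
  rw [mem_Q1] at hx ⊢
  rw [mul_x1, mul_x1, inv_x1, hx]; ring⟩

instance : (Q2 φ).Normal := ⟨fun x hx g => by
  rw [mem_Q2] at hx ⊢
  rw [mul_x6, mul_x6, inv_x6, hx]; ring⟩

/-- a subgroup containing the commutators is normal -/
theorem normal_of_comm {H : Subgroup (Sy φ)} (h : ∀ x : Sy φ, ∀ y ∈ H, ⁅x, y⁆ ∈ H) : H.Normal := ⟨fun y hy x => by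
  have : x * y * x⁻¹ = ⁅x, y⁆ * y := by rw [commutatorElement_def]; group
  rw [this]
  exact mul_mem (h x y hy) hy⟩

instance : (Z4 φ).Normal := normal_of_comm fun x y _ => comm_mem_Z4 x y
instance : (Z3 φ).Normal := normal_of_comm fun _ _ hy => Z3_le_Z4 hy |> comm_mem_Z3
instance : (Z2 φ).Normal := normal_of_comm fun _ _ hy => comm_mem_Z2 (Z2_le_Z3 hy)
instance : (Z1 φ).Normal := normal_of_comm fun _ _ hy => by rw [comm_Z1 hy]; exact one_mem _

end Sy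

end Cfsg.Agent.H765.D3
end

-- part: H765/D3/Cross
section
/-!
# S5261: cross product and `t^#` on the cubic extension `K / F`
-/

set_option autoImplicit false
set_option linter.unusedSectionVars false

namespace Cfsg.Agent.H765.D3

open Cfsg.Agent.Hexagon.Pos
open Cfsg.Agent.Hex.Defs (sh cr nm tr)

variable {F K : Type*} [Field F] [Field K] [Algebra F K]
variable (φ : K ≃ₐ[F] K) [Cub φ]

/-- Dedekind independence of `1, φ, φ²` -/
theorem dedekind {x y z : K} (h : ∀ s : K, x * s + y * φ s + z * φ (φ s) = 0) : x = 0 ∧ y = 0 ∧ z = 0 := by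
  obtain ⟨θ, hθ⟩ := Cub.ne (φ := φ)
  have hθ2 : φ (φ θ) ≠ θ := fun e => hθ (by
    have := congrArg φ e
    rw [phi3] at this
    exact this.symm)
  have hθ3 : φ (φ θ) ≠ φ θ := fun e => hθ (φ.injective e)
  -- eliminate `x`
  have h3 : ∀ s : K, y * (φ θ - θ) * φ s + z * (φ (φ θ) - θ) * φ (φ s) = 0 := fun s => by
    have e1 := h (s * θ)
    rw [map_mul, map_mul] at e1
    have e2 := h s
    linear_combination e1 - θ * e2
  have h4 : z = 0 := by
    have e1 := h3 θ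
    have e2 := h3 1
    rw [map_one, map_one] at e2
    have e3 : z * (φ (φ θ) - θ) * (φ (φ θ) - φ θ) = 0 := by linear_combination e1 - φ θ * e2
    rcases mul_eq_zero.1 e3 with e | e
    · rcases mul_eq_zero.1 e with e | e
      · exact e
      · exact absurd (sub_eq_zero.1 e) hθ2
    · exact absurd (sub_eq_zero.1 e) hθ3
  have h5 : y = 0 := by
    have e2 := h3 1
    rw [map_one, map_one, h4] at e2
    have e3 : y * (φ θ - θ) = 0 := by linear_combination e2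
    exact (mul_eq_zero.1 e3).resolve_right (sub_ne_zero.2 hθ)
  refine ⟨?_, h5, h4⟩
  have := h 1
  rw [map_one, map_one, h4, h5] at this
  linear_combination this

/-- `cr` is nondegenerate -/
theorem cr_nondeg {c : K} (h : ∀ a : K, cr φ a c = 0) : c = 0 := by
  have := (dedekind φ (x := 0) (y := φ (φ c)) (z := φ c) fun s => by
    have := h s
    rw [cr] at this
    linear_combination this).2.2
  simpa using this

theorem cr_nondeg' {c : K} (h : ∀ a : K, cr φ c a = 0) : c = 0 :=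
  cr_nondeg φ fun a => by rw [cr_comm, h]

/-- `cr (a, ·)` is injective if the characteristic is not two -/
theorem cr_eq_zero (h2 : (2 : K) ≠ 0) {a b : K} (h : cr φ a b = 0) : a = 0 ∨ b = 0 := by
  by_cases ha : a = 0
  · exact Or.inl ha
  right
  have ha1 : φ a ≠ 0 := by simpa using ha
  have ha2 : φ (φ a) ≠ 0 := by simpa using ha
  rw [cr] at h
  have e1 : φ (φ b) * φ a = -(φ (φ a) * φ b) := by linear_combination h
  have e2 := congrArg φ e1
  have e3 := congrArg φ e2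
  simp only [map_mul, map_neg, phi3] at e2 e3
  -- `e1 : b₂ a₁ = - a₂ b₁`, `e2 : b a₂ = - a b₂`, `e3 : b₁ a = - a₁ b`
  have e4 : 2 * b * (a * φ a * φ (φ a)) = 0 := by
    linear_combination a * φ a * e2 - a * a * e1 + a * φ (φ a) * e3
  rcases mul_eq_zero.1 e4 with e | e
  · exact (mul_eq_zero.1 e).resolve_left h2
  · simp [ha] at e

/-- kernel of `cr (a, ·)` in characteristic two -/
theorem cr_eq_zero_two (h2 : (2 : K) = 0) {a b : K} (ha : a ≠ 0) (h : cr φ a b = 0) : ∃ s : F, b = s • a := by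
  have ha1 : φ a ≠ 0 := by simpa using ha
  have ha2 : φ (φ a) ≠ 0 := by simpa using ha
  rw [cr] at h
  have e1 : φ (φ b) * φ a = -(φ (φ a) * φ b) := by linear_combination h
  have e2 : φ (b / a) = b / a := by
    apply φ.injective
    rw [map_div₀, map_div₀, div_eq_div_iff ha2 ha1]
    linear_combination e1 - φ (φ a) * φ b * h2
  obtain ⟨s, hs⟩ := exists_coe φ e2
  refine ⟨s, ?_⟩
  rw [Algebra.smul_def, hs, div_mul_cancel₀ _ ha]

theorem cr_smul_self_two (h2 : (2 : K) = 0) (s : F) (a : K) : cr φ a (s • a) = 0 := by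
  rw [cr_smul_right, cr_self, h2, zero_mul, smul_zero]

/-- every element is a sum of two cross products -/
theorem exists_cr_add (s : K) : ∃ a c c' : K, s = cr φ a c + cr φ 1 c' := by
  obtain ⟨c, hc⟩ : ∃ c : K, cr φ 1 c ≠ 0 := by
    by_contra hcon
    push Not at hcon
    exact one_ne_zero (cr_nondeg' φ hcon)
  obtain ⟨a0, ha0⟩ : ∃ a : K, tr φ (a * cr φ 1 c) ≠ 0 := by
    by_contra hcon
    push Not at hcon
    exact hc (tr_nondeg φ fun t => by rw [mul_comm]; exact hcon t)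
  let r : F := tr φ s / tr φ (a0 * cr φ 1 c)
  have h1 : tr φ (cr φ (r • a0) c) = tr φ s := by
    have e : tr φ (cr φ (r • a0) c) = r * tr φ (a0 * cr φ 1 c) := by
      have := tr_cr φ (r • a0) c 1
      rw [mul_one, cr_comm φ c 1, smul_mul_assoc, tr_smul] at this
      exact this
    rw [e, div_mul_cancel₀ _ ha0]
  refine ⟨r • a0, c, cr φ (r • a0) c - s, ?_⟩
  rw [cr_one_left, tr_sub, h1, sub_self, map_zero]
  ring

end Cfsg.Agent.H765.D3
end

-- part: H765/D3/Sub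
section
/-!
# S5261: centralizers, centre, central series and orders in `Sy φ`
-/

set_option autoImplicit false
set_option linter.unusedSectionVars false

namespace Cfsg.Agent.H765.D3

open Cfsg.Agent.Hexagon.Pos
open Cfsg.Agent.Hex.Defs (sh cr nm tr)
open scoped commutatorElement

variable {F K : Type*} [Field F] [Field K] [Algebra F K]

namespace Sy

variable {φ : K ≃ₐ[F] K} [Cub φ]

/-! ### Membership of the root elements -/

theorem u4_mem (w : F) : u4 φ w ∈ Z1 φ := ⟨rfl, rfl, rfl, rfl, rfl⟩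
theorem u2_mem (t : F) : u2 φ t ∈ Z2 φ := ⟨rfl, rfl, rfl, rfl⟩
theorem u3_mem (b : K) : u3 φ b ∈ Z3 φ := ⟨rfl, rfl, rfl⟩
theorem u5_mem (c : K) : u5 φ c ∈ Z4 φ := ⟨rfl, rfl⟩
theorem u6_mem (u : F) : u6 φ u ∈ Q1 φ := rfl
theorem u1_mem (a : K) : u1 φ a ∈ Q2 φ := rfl

theorem eq_u4 {x : Sy φ} (h : x ∈ Z1 φ) : x = u4 φ x.x4 := by
  obtain ⟨h1, h2, h3, h4, h5⟩ := h
  ext
  · exact h1
  · exact h2
  · exact h3
  · exact h4
  · exact h5
  · rfl

/-! ### Detection of the coordinates by commutators -/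

theorem x1_eq_zero {x : Sy φ} (h : (⁅x, u6 φ 1⁆).x5 = 0) : x.x1 = 0 := by
  rw [comm_x5] at h
  simpa [u6] using h

theorem x6_eq_zero {x : Sy φ} (h : (⁅x, u1 φ 1⁆).x5 = 0) : x.x6 = 0 := by
  rw [comm_x5] at h
  simpa [u1] using h

/-- `x` centralizes `U2` modulo nothing iff `x.x6 = 0` -/
theorem x6_eq_zero' {x : Sy φ} (h : ⁅x, u2 φ 1⁆ = 1) : x.x6 = 0 := by
  rw [comm_Z2 (u2_mem 1)] at h
  have := congrArg Sy.x4 h
  simpa [u4, u2] using this

theorem x5_eq_zero {x : Sy φ} (hx : x ∈ Z4 φ) (h : ∀ a, (⁅u1 φ a, x⁆).x3 = 0) : x.x5 = 0 :=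
  cr_nondeg φ fun a => by
    have := h a
    rw [comm_x3 hx] at this
    exact this

theorem x3_eq_zero {x : Sy φ} (hx : x ∈ Z3 φ) (h : ∀ a, (⁅u1 φ a, x⁆).x2 = 0) : x.x3 = 0 :=
  tr_nondeg φ fun a => by
    have := h a
    rw [comm_x2' hx] at this
    rw [mul_comm]
    exact this

/-! ### Centralizers -/

theorem mem_centralizer {H : Subgroup (Sy φ)} {x : Sy φ} :
    x ∈ Subgroup.centralizer (H : Set (Sy φ)) ↔ ∀ y ∈ H, ⁅x, y⁆ = 1 := by
  rw [Subgroup.mem_centralizer_iff]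
  refine forall₂_congr fun y _ => ?_
  rw [commutatorElement_eq_one_iff_mul_comm]
  exact eq_comm

theorem comm_Z3_Z3 {x y : Sy φ} (hx : x ∈ Z3 φ) (hy : y ∈ Z3 φ) : ⁅x, y⁆ = 1 := by
  rw [comm_Q1 hx.1 hy.1, form, hx.2.1, hx.2.2, hy.2.1, hy.2.2]
  simp only [zero_mul, mul_zero, tr_zero, sub_zero, add_zero]
  rfl

theorem centralizer_Z2 : Subgroup.centralizer (Z2 φ : Set (Sy φ)) = Q2 φ := by
  ext x
  rw [mem_centralizer, mem_Q2]
  constructor
  · intro h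
    exact x6_eq_zero' (h _ (u2_mem 1))
  · intro h y hy
    rw [comm_Z2 hy, h, zero_mul]; rfl

theorem centralizer_Z3 : Subgroup.centralizer (Z3 φ : Set (Sy φ)) = Z3 φ := by
  ext x
  rw [mem_centralizer]
  constructor
  · intro h
    have h6 : x.x6 = 0 := x6_eq_zero' (h _ (Z2_le_Z3 (u2_mem 1)))
    have h1 : x.x1 = 0 := by
      apply tr_nondeg φ
      intro b
      have := congrArg Sy.x2 (h _ (u3_mem b))
      rw [comm_x2' (u3_mem b)] at this
      exact this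
    refine ⟨h1, h6, ?_⟩
    apply tr_nondeg φ
    intro b
    have := congrArg Sy.x4 (h _ (u3_mem b))
    rw [comm_x4' (u3_mem b), h6] at this
    have e : (u3 φ b).x3 = b := rfl
    rw [e, zero_mul, zero_mul, zero_sub, add_zero] at this
    rw [mul_comm]
    exact neg_eq_zero.1 this
  · intro hx y hy
    exact comm_Z3_Z3 hx hy

theorem centralizer_Z4 : Subgroup.centralizer (Z4 φ : Set (Sy φ)) = Z2 φ := by
  ext x
  constructor
  · intro h
    have h3 : x ∈ Z3 φ := by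
      rw [← centralizer_Z3]
      exact Subgroup.centralizer_le (fun y hy => Z3_le_Z4 hy) h
    rw [mem_centralizer] at h
    refine ⟨h3.1, h3.2.1, h3.2.2, ?_⟩
    apply tr_nondeg φ
    intro c
    have := congrArg Sy.x4 (h _ (u5_mem c))
    rw [comm_Q1 h3.1 (u5_mem c).1, form, h3.2.1, h3.2.2] at this
    simp only [u4, u5, mul_zero, tr_zero, sub_zero, zero_add, one_x4] at this
    exact this
  · intro hx
    rw [mem_centralizer]
    intro y hy
    rw [← commutatorElement_inv, comm_Z2 hx, hy.2, zero_mul]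
    exact inv_one

theorem centralizer_Q1 : Subgroup.centralizer (Q1 φ : Set (Sy φ)) = Z1 φ := by
  ext x
  constructor
  · intro h
    have h2 : x ∈ Z2 φ := by
      rw [← centralizer_Z4]
      exact Subgroup.centralizer_le (fun y hy => Z4_le_Q1 hy) h
    rw [mem_centralizer] at h
    refine ⟨h2.1, h2.2.1, h2.2.2.1, h2.2.2.2, ?_⟩
    have := h _ (u6_mem 1)
    rw [← commutatorElement_inv, inv_eq_one, comm_Z2 h2] at this
    have := congrArg Sy.x4 this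
    simpa [u4, u6] using this
  · intro hx
    rw [mem_centralizer]
    intro y hy
    rw [← commutatorElement_inv, comm_Z1 hx, inv_one]

theorem centralizer_Q2 : Subgroup.centralizer (Q2 φ : Set (Sy φ)) = Z2 φ := by
  ext x
  constructor
  · intro h
    rw [← centralizer_Z4]
    exact Subgroup.centralizer_le (fun y hy => Z4_le_Q2 hy) h
  · intro hx
    rw [mem_centralizer]
    intro y hy
    rw [← commutatorElement_inv, comm_Z2 hx, hy, zero_mul]
    exact inv_one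

theorem center_eq : Subgroup.center (Sy φ) = Z1 φ := by
  apply le_antisymm
  · rw [← centralizer_Q1]
    intro x hx
    rw [Subgroup.mem_centralizer_iff]
    intro y _
    exact Subgroup.mem_center_iff.1 hx y
  · intro x hx
    rw [Subgroup.mem_center_iff]
    intro y
    exact commutatorElement_eq_one_iff_mul_comm.1 (comm_Z1 (x := y) hx)

/-- `Z2 = {x : [S, x] ≤ Z1}` -/
theorem mem_Z2_iff {x : Sy φ} : x ∈ Z2 φ ↔ ∀ y : Sy φ, ⁅y, x⁆ ∈ Z1 φ := by
  constructor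
  · intro hx y
    rw [comm_Z2 hx]
    exact u4_mem _
  · intro h
    have h1 : x.x1 = 0 := x1_eq_zero (by
      have := (Z1 φ).inv_mem (h (u6 φ 1))
      rw [commutatorElement_inv] at this
      exact this.2.2.1)
    have h6 : x.x6 = 0 := x6_eq_zero (by
      have := (Z1 φ).inv_mem (h (u1 φ 1))
      rw [commutatorElement_inv] at this
      exact this.2.2.1)
    have h5 : x.x5 = 0 := x5_eq_zero ⟨h1, h6⟩ fun a => (h _).2.2.2.1
    exact ⟨h1, h6, h5, x3_eq_zero ⟨h1, h6, h5⟩ fun a => (h _).2.2.2.2⟩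

/-- `Z3 = {x : [S, x] ≤ Z2}` -/
theorem mem_Z3_iff {x : Sy φ} : x ∈ Z3 φ ↔ ∀ y : Sy φ, ⁅y, x⁆ ∈ Z2 φ := by
  constructor
  · intro hx y
    exact comm_mem_Z2 hx
  · intro h
    have h1 : x.x1 = 0 := x1_eq_zero (by
      have := (Z2 φ).inv_mem (h (u6 φ 1))
      rw [commutatorElement_inv] at this
      exact this.2.2.1)
    have h6 : x.x6 = 0 := x6_eq_zero (by
      have := (Z2 φ).inv_mem (h (u1 φ 1))
      rw [commutatorElement_inv] at this
      exact this.2.2.1)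
    exact ⟨h1, h6, x5_eq_zero ⟨h1, h6⟩ fun a => (h _).2.2.2⟩

/-- `Z4 = {x : [S, x] ≤ Z3}` -/
theorem mem_Z4_iff {x : Sy φ} : x ∈ Z4 φ ↔ ∀ y : Sy φ, ⁅y, x⁆ ∈ Z3 φ := by
  constructor
  · intro hx y
    exact comm_mem_Z3 hx
  · intro h
    have h1 : x.x1 = 0 := x1_eq_zero (by
      have := (Z3 φ).inv_mem (h (u6 φ 1))
      rw [commutatorElement_inv] at this
      exact this.2.2)
    have h6 : x.x6 = 0 := x6_eq_zero (by
      have := (Z3 φ).inv_mem (h (u1 φ 1))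
      rw [commutatorElement_inv] at this
      exact this.2.2)
    exact ⟨h1, h6⟩

/-- `Q1 = {x : [x, Z3] ≤ Z1}` -/
theorem mem_Q1_iff {x : Sy φ} : x ∈ Q1 φ ↔ ∀ y ∈ Z3 φ, ⁅x, y⁆ ∈ Z1 φ := by
  constructor
  · intro hx y hy
    rw [comm_Q1 hx hy.1]
    exact u4_mem _
  · intro h
    apply tr_nondeg φ
    intro b
    have := (h _ (u3_mem b)).2.2.2.2
    rw [comm_x2' (u3_mem b)] at this
    exact this

/-! ### Characteristic subgroups -/

theorem char_of_forall {G : Type*} [Group G] {H : Subgroup G} (h : ∀ (α : G ≃* G), ∀ x ∈ H, α x ∈ H) :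
    H.Characteristic := by
  rw [Subgroup.characteristic_iff_map_le]
  rintro α _ ⟨x, hx, rfl⟩
  exact h α x hx

theorem map_Z1 (α : Sy φ ≃* Sy φ) {x : Sy φ} (hx : x ∈ Z1 φ) : α x ∈ Z1 φ := by
  rw [← center_eq, Subgroup.mem_center_iff] at hx ⊢
  intro y
  have := congrArg α (hx (α.symm y))
  simpa only [_root_.map_mul, _root_.MulEquiv.apply_symm_apply] using this

theorem map_Z2 (α : Sy φ ≃* Sy φ) {x : Sy φ} (hx : x ∈ Z2 φ) : α x ∈ Z2 φ := by
  rw [mem_Z2_iff] at hx ⊢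
  intro y
  have := map_Z1 α (hx (α.symm y))
  rwa [map_commutatorElement, MulEquiv.apply_symm_apply] at this

theorem map_Z3 (α : Sy φ ≃* Sy φ) {x : Sy φ} (hx : x ∈ Z3 φ) : α x ∈ Z3 φ := by
  rw [mem_Z3_iff] at hx ⊢
  intro y
  have := map_Z2 α (hx (α.symm y))
  rwa [map_commutatorElement, MulEquiv.apply_symm_apply] at this

theorem map_Z4 (α : Sy φ ≃* Sy φ) {x : Sy φ} (hx : x ∈ Z4 φ) : α x ∈ Z4 φ := by
  rw [mem_Z4_iff] at hx ⊢
  intro y
  have := map_Z3 α (hx (α.symm y))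
  rwa [map_commutatorElement, MulEquiv.apply_symm_apply] at this

theorem map_Q1 (α : Sy φ ≃* Sy φ) {x : Sy φ} (hx : x ∈ Q1 φ) : α x ∈ Q1 φ := by
  rw [mem_Q1_iff] at hx ⊢
  intro y hy
  have := map_Z1 α (hx (α.symm y) (map_Z3 α.symm hy))
  rwa [map_commutatorElement, MulEquiv.apply_symm_apply] at this

theorem map_Q2 (α : Sy φ ≃* Sy φ) {x : Sy φ} (hx : x ∈ Q2 φ) : α x ∈ Q2 φ := by
  rw [← centralizer_Z2, mem_centralizer] at hx ⊢
  intro y hy
  have := congrArg α (hx (α.symm y) (map_Z2 α.symm hy))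
  rwa [map_commutatorElement, MulEquiv.apply_symm_apply, map_one] at this

instance : (Z1 φ).Characteristic := char_of_forall fun α _ hx => map_Z1 α hx
instance : (Z2 φ).Characteristic := char_of_forall fun α _ hx => map_Z2 α hx
instance : (Z3 φ).Characteristic := char_of_forall fun α _ hx => map_Z3 α hx
instance : (Z4 φ).Characteristic := char_of_forall fun α _ hx => map_Z4 α hx
instance : (Q1 φ).Characteristic := char_of_forall fun α _ hx => map_Q1 α hx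
instance : (Q2 φ).Characteristic := char_of_forall fun α _ hx => map_Q2 α hx

/-! ### Orders -/

section Card

variable [Finite K] [Finite F]

theorem card_Z1 : Nat.card (Z1 φ) = Nat.card F := by
  refine Nat.card_congr ⟨fun x => x.1.x4, fun w => ⟨u4 φ w, u4_mem w⟩, fun x => ?_, fun w => rfl⟩
  exact Subtype.ext (eq_u4 x.2).symm

theorem card_Z2 : Nat.card (Z2 φ) = Nat.card F ^ 2 := by
  rw [Nat.card_congr (β := F × F) ⟨fun x => (x.1.x2, x.1.x4), fun w => ⟨⟨0, 0, 0, 0, w.1, w.2⟩, rfl, rfl, rfl, rfl⟩,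
    fun x => ?_, fun w => rfl⟩, Nat.card_prod, sq]
  obtain ⟨x, h1, h2, h3, h4⟩ := x
  apply Subtype.ext
  ext
  exacts [h1.symm, h2.symm, h3.symm, h4.symm, rfl, rfl]

theorem card_Z3 : Nat.card (Z3 φ) = Nat.card K * Nat.card F ^ 2 := by
  rw [Nat.card_congr (β := K × F × F) ⟨fun x => (x.1.x3, x.1.x2, x.1.x4),
    fun w => ⟨⟨0, 0, 0, w.1, w.2.1, w.2.2⟩, rfl, rfl, rfl⟩,
    fun x => ?_, fun w => rfl⟩, Nat.card_prod, Nat.card_prod, sq]
  obtain ⟨x, h1, h2, h3⟩ := x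
  apply Subtype.ext
  ext
  exacts [h1.symm, h2.symm, h3.symm, rfl, rfl, rfl]

theorem card_Z4 : Nat.card (Z4 φ) = Nat.card K ^ 2 * Nat.card F ^ 2 := by
  rw [Nat.card_congr (β := K × K × F × F) ⟨fun x => (x.1.x5, x.1.x3, x.1.x2, x.1.x4),
    fun w => ⟨⟨0, 0, w.1, w.2.1, w.2.2.1, w.2.2.2⟩, rfl, rfl⟩,
    fun x => ?_, fun w => rfl⟩, Nat.card_prod, Nat.card_prod, Nat.card_prod]
  · ring
  obtain ⟨x, h1, h2⟩ := x
  apply Subtype.ext
  ext
  exacts [h1.symm, h2.symm, rfl, rfl, rfl, rfl]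

theorem card_Q1 : Nat.card (Q1 φ) = Nat.card K ^ 2 * Nat.card F ^ 3 := by
  rw [Nat.card_congr (β := F × K × K × F × F) ⟨fun x => (x.1.x6, x.1.x5, x.1.x3, x.1.x2, x.1.x4),
    fun w => ⟨⟨0, w.1, w.2.1, w.2.2.1, w.2.2.2.1, w.2.2.2.2⟩, rfl⟩,
    fun x => ?_, fun w => rfl⟩, Nat.card_prod, Nat.card_prod, Nat.card_prod, Nat.card_prod]
  · ring
  obtain ⟨x, h1⟩ := x
  apply Subtype.ext
  ext
  exacts [Eq.symm h1, rfl, rfl, rfl, rfl, rfl]

theorem card_Q2 : Nat.card (Q2 φ) = Nat.card K ^ 3 * Nat.card F ^ 2 := by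
  rw [Nat.card_congr (β := K × K × K × F × F) ⟨fun x => (x.1.x1, x.1.x5, x.1.x3, x.1.x2, x.1.x4),
    fun w => ⟨⟨w.1, 0, w.2.1, w.2.2.1, w.2.2.2.1, w.2.2.2.2⟩, rfl⟩,
    fun x => ?_, fun w => rfl⟩, Nat.card_prod, Nat.card_prod, Nat.card_prod, Nat.card_prod]
  · ring
  obtain ⟨x, h1⟩ := x
  apply Subtype.ext
  ext
  exacts [rfl, Eq.symm h1, rfl, rfl, rfl, rfl]

end Card

/-- the quotient by `Q1` -/
def hom1 (φ : K ≃ₐ[F] K) [Cub φ] : Sy φ →* Multiplicative K where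
  toFun x := Multiplicative.ofAdd x.x1
  map_one' := rfl
  map_mul' _ _ := rfl

/-- the quotient by `Q2` -/
def hom6 (φ : K ≃ₐ[F] K) [Cub φ] : Sy φ →* Multiplicative F where
  toFun x := Multiplicative.ofAdd x.x6
  map_one' := rfl
  map_mul' _ _ := rfl

theorem ker_hom1 : (hom1 φ).ker = Q1 φ := by
  ext x
  exact Iff.rfl

theorem ker_hom6 : (hom6 φ).ker = Q2 φ := by
  ext x
  exact Iff.rfl

theorem hom1_surjective : Function.Surjective (hom1 φ) := fun a => ⟨u1 φ a.toAdd, rfl⟩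

theorem hom6_surjective : Function.Surjective (hom6 φ) := fun a => ⟨u6 φ a.toAdd, rfl⟩

theorem index_Q2 : (Q2 φ).index = Nat.card F := by
  rw [← ker_hom6, Subgroup.index_ker, MonoidHom.range_eq_top.2 (by exact hom6_surjective)]
  exact Subgroup.card_top

/-! ### Commutator subgroups -/

theorem comm_top_Z2 : ⁅(⊤ : Subgroup (Sy φ)), Z2 φ⁆ = Z1 φ := by
  apply le_antisymm
  · rw [Subgroup.commutator_le]
    intro x _ y hy
    rw [comm_Z2 hy]
    exact u4_mem _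
  · intro x hx
    rw [eq_u4 hx]
    have : u4 φ x.x4 = ⁅u6 φ x.x4, u2 φ 1⁆ := by
      rw [comm_Z2 (u2_mem 1)]
      simp [u6, u2]
    rw [this]
    exact Subgroup.commutator_mem_commutator trivial (u2_mem 1)

theorem comm_top_Z3 : ⁅(⊤ : Subgroup (Sy φ)), Z3 φ⁆ = Z2 φ := by
  apply le_antisymm
  · rw [Subgroup.commutator_le]
    intro x _ y hy
    exact comm_mem_Z2 hy
  · have h1 : Z1 φ ≤ ⁅(⊤ : Subgroup (Sy φ)), Z3 φ⁆ := by
      rw [← comm_top_Z2]
      exact Subgroup.commutator_mono le_rfl Z2_le_Z3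
    intro x hx
    obtain ⟨s, hs⟩ := exists_tr_ne φ
    have h2 : ⁅u1 φ ((x.x2 / tr φ s) • s), u3 φ 1⁆ ∈ ⁅(⊤ : Subgroup (Sy φ)), Z3 φ⁆ :=
      Subgroup.commutator_mem_commutator trivial (u3_mem 1)
    have h3 : (⁅u1 φ ((x.x2 / tr φ s) • s), u3 φ 1⁆).x2 = x.x2 := by
      rw [comm_x2' (u3_mem 1)]
      simp only [u1, u3]
      rw [mul_one, tr_smul, div_mul_cancel₀ _ hs]
    have h4 := comm_mem_Z2 (x := u1 φ ((x.x2 / tr φ s) • s)) (u3_mem (φ := φ) 1)
    set z := ⁅u1 φ ((x.x2 / tr φ s) • s), u3 φ 1⁆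
    have h5 : x = z * (z⁻¹ * x) := by group
    rw [h5]
    refine mul_mem h2 (h1 ?_)
    refine ⟨?_, ?_, ?_, ?_, ?_⟩
    · rw [mul_x1, inv_x1, h4.1, hx.1]; ring
    · rw [mul_x6, inv_x6, h4.2.1, hx.2.1]; ring
    · rw [mul_x5, inv_x5, h4.2.2.1, hx.2.2.1, hx.2.1, h4.1]; simp only [_root_.neg_zero, _root_.smul_zero, _root_.add_zero, _root_.zero_smul]
    · rw [mul_x3, inv_x3, h4.2.2.2, hx.2.2.2, hx.2.1, hx.2.2.1, h4.1, h4.2.1]; simp [cr]
    · rw [mul_x2, inv_x2, h3, hx.2.2.2, hx.2.1, hx.2.2.1, h4.1, h4.2.1]; simp [tr_zero, sh]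

theorem comm_top_Z4 : ⁅(⊤ : Subgroup (Sy φ)), Z4 φ⁆ = Z3 φ := by
  apply le_antisymm
  · rw [Subgroup.commutator_le]
    intro x _ y hy
    exact comm_mem_Z3 hy
  · have h1 : Z2 φ ≤ ⁅(⊤ : Subgroup (Sy φ)), Z4 φ⁆ := by
      rw [← comm_top_Z3]
      exact Subgroup.commutator_mono le_rfl Z3_le_Z4
    intro x hx
    obtain ⟨a, c, c', hs⟩ := exists_cr_add φ x.x3
    have h2 : ⁅u1 φ a, u5 φ c⁆ * ⁅u1 φ 1, u5 φ c'⁆ ∈ ⁅(⊤ : Subgroup (Sy φ)), Z4 φ⁆ :=
      mul_mem (Subgroup.commutator_mem_commutator trivial (u5_mem _))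
        (Subgroup.commutator_mem_commutator trivial (u5_mem _))
    have h4 : ⁅u1 φ a, u5 φ c⁆ * ⁅u1 φ 1, u5 φ c'⁆ ∈ Z3 φ :=
      mul_mem (comm_mem_Z3 (u5_mem _)) (comm_mem_Z3 (u5_mem _))
    have h3 : (⁅u1 φ a, u5 φ c⁆ * ⁅u1 φ 1, u5 φ c'⁆).x3 = x.x3 := by
      rw [mul_x3, (comm_mem_Z3 (x := u1 φ a) (u5_mem (φ := φ) c)).1,
        (comm_mem_Z3 (x := u1 φ 1) (u5_mem (φ := φ) c')).2.1, comm_x3 (u5_mem _), comm_x3 (u5_mem _),
        cr_zero_left, zero_smul, add_zero, add_zero]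
      exact hs.symm
    set z := ⁅u1 φ a, u5 φ c⁆ * ⁅u1 φ 1, u5 φ c'⁆
    have h5 : x = z * (z⁻¹ * x) := by group
    rw [h5]
    refine mul_mem h2 (h1 ?_)
    refine ⟨?_, ?_, ?_, ?_⟩
    · rw [mul_x1, inv_x1, h4.1, hx.1]; ring
    · rw [mul_x6, inv_x6, h4.2.1, hx.2.1]; ring
    · rw [mul_x5, inv_x5, h4.2.2, hx.2.2, hx.2.1, h4.1]; simp only [_root_.neg_zero, _root_.smul_zero, _root_.add_zero, _root_.zero_smul]
    · rw [mul_x3, inv_x3, h3, hx.2.1, hx.2.2, h4.1, h4.2.1]; simp [cr]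

theorem commutator_top : ⁅(⊤ : Subgroup (Sy φ)), (⊤ : Subgroup (Sy φ))⁆ = Z4 φ := by
  apply le_antisymm
  · rw [Subgroup.commutator_le]
    intro x _ y _
    exact comm_mem_Z4 x y
  · have h1 : Z3 φ ≤ ⁅(⊤ : Subgroup (Sy φ)), (⊤ : Subgroup (Sy φ))⁆ := by
      rw [← comm_top_Z4]
      exact Subgroup.commutator_mono le_rfl le_top
    intro x hx
    have h2 : ⁅u1 φ x.x5, u6 φ 1⁆ ∈ ⁅(⊤ : Subgroup (Sy φ)), (⊤ : Subgroup (Sy φ))⁆ :=
      Subgroup.commutator_mem_commutator trivial trivial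
    have h3 : (⁅u1 φ x.x5, u6 φ 1⁆).x5 = x.x5 := by
      rw [comm_x5]
      simp [u1, u6]
    have h4 := comm_mem_Z4 (u1 φ x.x5) (u6 φ 1)
    set z := ⁅u1 φ x.x5, u6 φ 1⁆
    have h5 : x = z * (z⁻¹ * x) := by group
    rw [h5]
    refine mul_mem h2 (h1 ?_)
    refine ⟨?_, ?_, ?_⟩
    · rw [mul_x1, inv_x1, h4.1, hx.1]; ring
    · rw [mul_x6, inv_x6, h4.2, hx.2]; ring
    · rw [mul_x5, inv_x5, h3, hx.2, h4.1]; simp only [_root_.smul_zero, _root_.add_zero, _root_.neg_add_cancel, _root_.zero_smul]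

theorem commutator_eq : commutator (Sy φ) = Z4 φ := commutator_top

end Sy

end Cfsg.Agent.H765.D3
end

private theorem dce_b7af087a8080 : _root_.True := by
  try have : _root_.True := by simp only [_root_.Cfsg.Agent.H765.D3.Sy.u5.eq_1]
  try have : _root_.True := by simp only [_root_.Cfsg.Agent.H765.D3.Sy.u4.eq_1]
  try have : _root_.True := by simp only [_root_.Cfsg.Agent.H765.D3.Sy.u2.eq_1]
  try have : _root_.True := by simp only [_root_.Cfsg.Agent.H765.D3.Sy.u3.eq_1]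
  try have : _root_.True := by simp only [_root_.Cfsg.Agent.H765.D3.Sy.form.eq_1]
  try have : _root_.True := by simp only [_root_.Cfsg.Agent.Hex.Defs.sh.eq_1]
  try have : _root_.True := by simp only [_root_.Cfsg.Agent.H765.D3.Sy.u1.eq_1]
  try have : _root_.True := by simp only [_root_.Cfsg.Agent.H765.D3.Sy.u6.eq_1]
  try have : _root_.True := by simp only [_root_.Cfsg.Agent.Hex.Defs.cr.eq_1]
  exact _root_.True.intro
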