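import Cfsg.Agent.H765.D3.Sub
import Cfsg.Agent.HexRec.FixedField_m3
import Cfsg.Agent.Prune
set_option linter.all false
prune_inst 0x7f00000000000000000000000000000000000000000000000000000000000000000000000000000000000000000000000000000000000000000000000000000000000000000000000000000000000000003fffffffffffffffffffffffffffbeffbdffffffff
open scoped Cfsg.Agent.FastGrp

-- part: H765/D3/Auts
section
/-!
# S5261: the standard automorphisms of `Sy φ` (torus `Kˣ × Fˣ` and field automorphisms)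

`Semi φ`: `l : Kˣ`, `m : Fˣ`, `τ : K ≃+* K` commuting with `φ`, `ρ = τ|F`; `Semi.aut : Sy φ ≃* Sy φ`,
`x1 ↦ l τ(x1)`, `x6 ↦ m ρ(x6)`, `x5 ↦ m l τ(x5)`, `x3 ↦ m l^# τ(x3)`, `x2 ↦ m N(l) ρ(x2)`, `x4 ↦ m² N(l) ρ(x4)`.
-/

set_option autoImplicit false
set_option linter.unusedSectionVars false

namespace Cfsg.Agent.H765.D3

open Cfsg.Agent.Hexagon.Pos
open Cfsg.Agent.Hex.Defs (sh cr nm tr)
open scoped commutatorElement

variable {F K : Type*} [Field F] [Field K] [Algebra F K]

/-- a field automorphism of `K` compatible with `φ` and `F` -/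
@[ext] structure Gal (φ : K ≃ₐ[F] K) where
  τ : K ≃+* K
  ρ : F ≃+* F
  res : ∀ s, algebraMap F K (ρ s) = τ (algebraMap F K s)
  comm : ∀ t, τ (φ t) = φ (τ t)

variable {φ : K ≃ₐ[F] K}

namespace Gal

/-- identity -/
def id (φ : K ≃ₐ[F] K) : Gal φ where
  τ := RingEquiv.refl K
  ρ := RingEquiv.refl F
  res _ := rfl
  comm _ := rfl

/-- inverse -/
def symm (g : Gal φ) : Gal φ where
  τ := g.τ.symm
  ρ := g.ρ.symm
  res s := by
    apply g.τ.injective
    rw [← g.res, RingEquiv.apply_symm_apply, RingEquiv.apply_symm_apply]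
  comm t := by
    apply g.τ.injective
    rw [g.comm, RingEquiv.apply_symm_apply, RingEquiv.apply_symm_apply]

/-- composition -/
def trans (g h : Gal φ) : Gal φ where
  τ := g.τ.trans h.τ
  ρ := g.ρ.trans h.ρ
  res s := by
    rw [RingEquiv.trans_apply, RingEquiv.trans_apply, h.res, g.res]
  comm t := by
    rw [RingEquiv.trans_apply, RingEquiv.trans_apply, g.comm, h.comm]

/-- `φ` itself -/
def ofPhi (φ : K ≃ₐ[F] K) : Gal φ where
  τ := φ
  ρ := RingEquiv.refl F
  res s := (φ.commutes s).symm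
  comm _ := rfl

end Gal

variable [Cub φ]

theorem rho_tr (g : Gal φ) (t : K) : g.ρ (tr φ t) = tr φ (g.τ t) := by
  apply (algebraMap F K).injective
  rw [g.res, coe_tr, coe_tr, map_add, map_add, g.comm, g.comm, g.comm]

theorem rho_nm (g : Gal φ) (t : K) : g.ρ (nm φ t) = nm φ (g.τ t) := by
  apply (algebraMap F K).injective
  rw [g.res, coe_nm, coe_nm, map_mul, map_mul, g.comm, g.comm, g.comm]

theorem tau_sh (g : Gal φ) (t : K) : g.τ (sh φ t) = sh φ (g.τ t) := by
  rw [sh, sh, map_mul, g.comm, g.comm, g.comm]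

theorem tau_cr (g : Gal φ) (s t : K) : g.τ (cr φ s t) = cr φ (g.τ s) (g.τ t) := by
  simp only [cr, map_add, map_mul, g.comm]

theorem tau_smul (g : Gal φ) (s : F) (t : K) : g.τ (s • t) = g.ρ s • g.τ t := by
  rw [Algebra.smul_def, Algebra.smul_def, map_mul, g.res]

/-- standard automorphism on coordinates -/
noncomputable def stdFun (l : K) (m : F) (g : Gal φ) (x : Sy φ) : Sy φ where
  x1 := l * g.τ x.x1
  x6 := m * g.ρ x.x6
  x5 := m • (l * g.τ x.x5)
  x3 := m • (sh φ l * g.τ x.x3)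
  x2 := m * nm φ l * g.ρ x.x2
  x4 := m ^ 2 * nm φ l * g.ρ x.x4

theorem stdFun_mul (l : K) (m : F) (g : Gal φ) (x y : Sy φ) :
    stdFun l m g (x * y) = stdFun l m g x * stdFun l m g y := by
  ext
  · simp only [stdFun, Sy.mul_def, map_add]; ring
  · simp only [stdFun, Sy.mul_def, map_add]; ring
  · simp only [stdFun, Sy.mul_def, map_add, tau_smul]; cub
  · simp only [stdFun, Sy.mul_def, map_add, tau_smul, tau_cr, tau_sh]; cub
  · simp only [stdFun, Sy.mul_def, map_add, map_mul, rho_tr, rho_nm, tau_sh]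
    apply (algebraMap F K).injective
    cub
  · simp only [stdFun, Sy.mul_def, map_add, map_sub, map_mul, map_pow, rho_tr, rho_nm, tau_sh, tau_smul]
    apply (algebraMap F K).injective
    cub

theorem stdFun_comp (l l' : K) (m m' : F) (g g' : Gal φ) (x : Sy φ) :
    stdFun l m g (stdFun l' m' g' x) = stdFun (l * g.τ l') (m * g.ρ m') (g'.trans g) x := by
  ext
  · simp only [stdFun, Gal.trans, RingEquiv.trans_apply, map_mul]; ring
  · simp only [stdFun, Gal.trans, RingEquiv.trans_apply, map_mul]; ring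
  · simp only [stdFun, Gal.trans, RingEquiv.trans_apply, map_mul, tau_smul]; cub
  · simp only [stdFun, Gal.trans, RingEquiv.trans_apply, map_mul, tau_smul, tau_sh]; cub
  · simp only [stdFun, Gal.trans, RingEquiv.trans_apply, map_mul, rho_nm, nm_mul]; ring
  · simp only [stdFun, Gal.trans, RingEquiv.trans_apply, map_mul, map_pow, rho_nm, nm_mul]; ring

theorem stdFun_one (g : Gal φ) (h1 : ∀ t, g.τ t = t) (h2 : ∀ t, g.ρ t = t) (x : Sy φ) :
    stdFun 1 1 g x = x := by
  ext
  · simp only [stdFun, h1]; ring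
  · simp only [stdFun, h2]; ring
  · simp only [stdFun, h1]; cub
  · simp only [stdFun, h1]; cub
  · simp only [stdFun, h2, nm_one]; ring
  · simp only [stdFun, h2, nm_one]; ring

/-- **Standard automorphisms** -/
noncomputable def stdAut (l : Kˣ) (m : Fˣ) (g : Gal φ) : Sy φ ≃* Sy φ where
  toFun := stdFun (l : K) (m : F) g
  invFun := stdFun (g.τ.symm (l⁻¹ : Kˣ)) (g.ρ.symm (m⁻¹ : Fˣ)) g.symm
  left_inv x := by
    rw [stdFun_comp]
    have h1 : g.τ.symm ((l⁻¹ : Kˣ) : K) * g.symm.τ (l : K) = 1 := by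
      change g.τ.symm ((l⁻¹ : Kˣ) : K) * g.τ.symm (l : K) = 1
      rw [← map_mul, Units.inv_mul, map_one]
    have h2 : g.ρ.symm ((m⁻¹ : Fˣ) : F) * g.symm.ρ (m : F) = 1 := by
      change g.ρ.symm ((m⁻¹ : Fˣ) : F) * g.ρ.symm (m : F) = 1
      rw [← map_mul, Units.inv_mul, map_one]
    rw [h1, h2]
    exact stdFun_one _ (fun t => g.τ.symm_apply_apply t) (fun t => g.ρ.symm_apply_apply t) x
  right_inv x := by
    rw [stdFun_comp]
    have h1 : (l : K) * g.τ (g.τ.symm ((l⁻¹ : Kˣ) : K)) = 1 := by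
      rw [RingEquiv.apply_symm_apply, Units.mul_inv]
    have h2 : (m : F) * g.ρ (g.ρ.symm ((m⁻¹ : Fˣ) : F)) = 1 := by
      rw [RingEquiv.apply_symm_apply, Units.mul_inv]
    rw [h1, h2]
    exact stdFun_one _ (fun t => g.τ.apply_symm_apply t) (fun t => g.ρ.apply_symm_apply t) x
  map_mul' := stdFun_mul (l : K) (m : F) g

theorem stdAut_apply (l : Kˣ) (m : Fˣ) (g : Gal φ) (x : Sy φ) : stdAut l m g x = stdFun (l : K) (m : F) g x := rfl

theorem stdAut_x2 (l : Kˣ) (m : Fˣ) (g : Gal φ) (x : Sy φ) :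
    (stdAut l m g x).x2 = m * nm φ l * g.ρ x.x2 := rfl
theorem stdAut_x4 (l : Kˣ) (m : Fˣ) (g : Gal φ) (x : Sy φ) :
    (stdAut l m g x).x4 = (m : F) ^ 2 * nm φ l * g.ρ x.x4 := rfl

/-- the torus -/
noncomputable def tor (φ : K ≃ₐ[F] K) [Cub φ] : Kˣ × Fˣ →* MulAut (Sy φ) where
  toFun v := stdAut v.1 v.2 (Gal.id φ)
  map_one' := by
    ext1 x
    exact stdFun_one _ (fun t => rfl) (fun t => rfl) x
  map_mul' v w := by
    ext1 x
    rw [MulAut.mul_apply, stdAut_apply, stdAut_apply, stdAut_apply, stdFun_comp]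
    congr 1

/-- field automorphisms -/
noncomputable def galAut (g : Gal φ) : Sy φ ≃* Sy φ := stdAut 1 1 g

end Cfsg.Agent.H765.D3
end

-- part: H765/D3/Lin
section
/-!
# S5261: `F`-linear maps `K → K`, extension of automorphisms of `F`
-/

set_option autoImplicit false
set_option linter.unusedSectionVars false

namespace Cfsg.Agent.H765.D3

open Cfsg.Agent.Hexagon.Pos
open Cfsg.Agent.Hex.Defs (sh cr nm tr)

variable {F K : Type*} [Field F] [Field K] [Algebra F K]
variable (φ : K ≃ₐ[F] K) [Cub φ]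

section Fin

variable [Finite K]

include φ

theorem card_K : Nat.card K = Nat.card F ^ 3 := by
  have h3 : ∀ t, (φ : K ≃+* K) ((φ : K ≃+* K) ((φ : K ≃+* K) t)) = t := phi3 φ
  have hne : ∃ t, (φ : K ≃+* K) t ≠ t := Cub.ne (φ := φ)
  have h1 := Cfsg.Agent.HexRec.FixedField.finrank_eq (φ : K ≃+* K) h3 hne
  have h2 := Module.natCard_eq_pow_finrank (K := Cfsg.Agent.HexRec.FixedField.Fx (φ : K ≃+* K)) (V := K)
  rw [h1] at h2
  rw [h2]
  congr 1
  symm
  refine Nat.card_congr (Equiv.ofBijective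
    (fun s : F => (⟨algebraMap F K s, (Cfsg.Agent.HexRec.FixedField.mem_Fx _).2 (phi_coe φ s)⟩ :
      Cfsg.Agent.HexRec.FixedField.Fx (φ : K ≃+* K))) ⟨?_, ?_⟩)
  · intro s t h
    exact (algebraMap F K).injective (congrArg Subtype.val h)
  · rintro ⟨t, ht⟩
    obtain ⟨s, hs⟩ := exists_coe φ (t := t) ((Cfsg.Agent.HexRec.FixedField.mem_Fx _).1 ht)
    exact ⟨s, Subtype.ext hs⟩

theorem finite_F : Finite F := Finite.of_injective (algebraMap F K) (algebraMap F K).injective

theorem finrank_K : Module.finrank F K = 3 := by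
  have hF := finite_F φ
  have h1 := card_K φ
  have h2 := Module.natCard_eq_pow_finrank (K := F) (V := K)
  rw [h1] at h2
  exact (Nat.pow_right_injective Finite.one_lt_card h2).symm

/-- every `F`-linear map `K → K` is `A + B φ + C φ²` -/
theorem exists_lin (f : K →ₗ[F] K) : ∃ A B C : K, ∀ x, f x = A * x + B * φ x + C * φ (φ x) := by
  have hF := finite_F φ
  let M : K × K × K → (K →ₗ[F] K) := fun v =>
    { toFun := fun x => v.1 * x + v.2.1 * φ x + v.2.2 * φ (φ x)
      map_add' := fun x y => by simp only [map_add]; ring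
      map_smul' := fun r x => by
        simp only [Algebra.smul_def, map_mul, phi_coe, RingHom.id_apply]; ring }
  have hM : ∀ v x, M v x = v.1 * x + v.2.1 * φ x + v.2.2 * φ (φ x) := fun _ _ => rfl
  have hinj : Function.Injective M := by
    rintro ⟨a, b, c⟩ ⟨a', b', c'⟩ h
    have h1 := dedekind φ (x := a - a') (y := b - b') (z := c - c') fun s => by
      have := LinearMap.congr_fun h s
      rw [hM, hM] at this
      linear_combination this
    rw [sub_eq_zero, sub_eq_zero, sub_eq_zero] at h1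
    obtain ⟨rfl, rfl, rfl⟩ := h1
    rfl
  have hfin : Module.Finite F K := Module.Finite.of_finite
  have hcard : Nat.card (K →ₗ[F] K) = Nat.card (K × K × K) := by
    have h1 := Module.natCard_eq_pow_finrank (K := F) (V := K →ₗ[F] K)
    rw [h1, Module.finrank_linearMap, finrank_K φ, Nat.card_prod, Nat.card_prod, card_K φ]
    ring
  have : Finite (K →ₗ[F] K) := Nat.finite_of_card_ne_zero (by rw [hcard]; exact Nat.card_pos.ne')
  have hsurj : Function.Surjective M :=
    (Nat.bijective_iff_injective_and_card M).2 ⟨hinj, hcard.symm⟩ |>.2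
  obtain ⟨⟨A, B, C⟩, h⟩ := hsurj f
  exact ⟨A, B, C, fun x => by rw [← h, hM]⟩

end Fin

/-- bilinear Dedekind independence -/
theorem dedekind2 {m : Fin 3 → Fin 3 → K}
    (h : ∀ s t : K,
      (m 0 0 * s + m 1 0 * φ s + m 2 0 * φ (φ s)) * t + (m 0 1 * s + m 1 1 * φ s + m 2 1 * φ (φ s)) * φ t +
        (m 0 2 * s + m 1 2 * φ s + m 2 2 * φ (φ s)) * φ (φ t) = 0) : ∀ i j, m i j = 0 := by
  have h1 : ∀ s, _ := fun s => dedekind φ (h s)
  have a0 := dedekind φ fun s => (h1 s).1
  have a1 := dedekind φ fun s => (h1 s).2.1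
  have a2 := dedekind φ fun s => (h1 s).2.2
  intro i j
  fin_cases i <;> fin_cases j <;> simp [a0, a1, a2]

/-- quadratic independence -/
theorem quad_indep [Finite K] {m0 m1 m2 n0 n1 n2 : K}
    (h : ∀ s : K, m0 * s ^ 2 + m1 * φ s ^ 2 + m2 * φ (φ s) ^ 2 + n0 * (φ s * φ (φ s)) + n1 * (φ (φ s) * s) +
      n2 * (s * φ s) = 0) : m0 = 0 ∧ m1 = 0 ∧ m2 = 0 ∧ n0 = 0 ∧ n1 = 0 ∧ n2 = 0 := by
  have hp := dedekind2 φ (m := ![![2 * m0, n2, n1], ![n2, 2 * m1, n0], ![n1, n0, 2 * m2]]) (fun s t => by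
    have e1 := h (s + t)
    have e2 := h s
    have e3 := h t
    simp only [map_add] at e1
    simp only [Matrix.cons_val_zero, Matrix.cons_val_one, Matrix.cons_val]
    linear_combination e1 - e2 - e3)
  have b0 : 2 * m0 = 0 := hp 0 0
  have b1 : 2 * m1 = 0 := hp 1 1
  have b2 : 2 * m2 = 0 := hp 2 2
  have c0 : n0 = 0 := hp 1 2
  have c1 : n1 = 0 := hp 0 2
  have c2 : n2 = 0 := hp 0 1
  by_cases h2 : (2 : K) = 0
  · have hchar : CharP K 2 := CharTwo.of_one_ne_zero_of_two_eq_zero one_ne_zero h2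
    have hbij : Function.Bijective (frobenius K 2) := Finite.injective_iff_bijective.1 (frobenius_inj K 2)
    have h3 := dedekind φ (x := m0) (y := m1) (z := m2) fun t => by
      obtain ⟨s, hs⟩ := hbij.2 t
      rw [frobenius_def] at hs
      have := h s
      rw [c0, c1, c2] at this
      rw [← hs, map_pow, map_pow]
      linear_combination this
    exact ⟨h3.1, h3.2.1, h3.2.2, c0, c1, c2⟩
  · exact ⟨(mul_eq_zero.1 b0).resolve_left h2, (mul_eq_zero.1 b1).resolve_left h2,
      (mul_eq_zero.1 b2).resolve_left h2, c0, c1, c2⟩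

end Cfsg.Agent.H765.D3
end

-- part: H765/D3/Pos
section
/-!
# S5261: the action of `Aut(Sy φ)` on the sections
-/

set_option autoImplicit false
set_option linter.unusedSectionVars false

namespace Cfsg.Agent.H765.D3

open Cfsg.Agent.Hexagon.Pos
open Cfsg.Agent.Hex.Defs (sh cr nm tr)
open scoped commutatorElement

variable {F K : Type*} [Field F] [Field K] [Algebra F K]
variable {φ : K ≃ₐ[F] K} [Cub φ]

/-- every ring automorphism of a finite field is a power map -/
theorem exists_pow_frob {E : Type*} [Field E] [Finite E] {p : ℕ} [Fact p.Prime] [CharP E p] (ρ : E ≃+* E) :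
    ∃ n : ℕ, ∀ x, ρ x = x ^ p ^ n := by
  let _ : Algebra (ZMod p) E := ZMod.algebra E p
  let f : E ≃ₐ[ZMod p] E := AlgEquiv.ofRingEquiv (f := ρ) fun r =>
    RingHom.congr_fun (RingHom.ext_zmod ((ρ : E →+* E).comp (algebraMap (ZMod p) E)) (algebraMap (ZMod p) E)) r
  obtain ⟨n, hn⟩ := (FiniteField.bijective_frobeniusAlgEquivOfAlgebraic_pow (ZMod p) E).2 f
  refine ⟨n.1, fun x => ?_⟩
  have h1 : ρ x = f x := rfl
  rw [h1, ← hn]
  simp only [AlgEquiv.coe_pow, FiniteField.coe_frobeniusAlgEquivOfAlgebraic_iterate, ZMod.card]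

/-- automorphisms of `F` extend to `K` -/
theorem exists_gal [Finite K] (ρ : F ≃+* F) : ∃ g : Gal φ, g.ρ = ρ := by
  have hF := finite_F φ
  obtain ⟨p, hc⟩ := CharP.exists K
  have hp : p.Prime := (CharP.char_is_prime_or_zero K p).resolve_right fun h => by
    subst h
    have := CharP.charP_to_charZero K
    exact not_finite K
  have hpf : Fact p.Prime := ⟨hp⟩
  have hcF : CharP F p := (RingHom.charP_iff (algebraMap F K) (algebraMap F K).injective p).2 hc
  obtain ⟨n, hn⟩ := exists_pow_frob (p := p) ρ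
  have hb : Function.Bijective (iterateFrobenius K p n) :=
    Finite.injective_iff_bijective.1 (iterateFrobenius_inj K p n)
  refine ⟨⟨RingEquiv.ofBijective (iterateFrobenius K p n) hb, ρ, fun s => ?_, fun t => ?_⟩, rfl⟩
  · change _ = iterateFrobenius K p n _
    rw [iterateFrobenius_def, hn, map_pow]
  · change iterateFrobenius K p n _ = φ (iterateFrobenius K p n _)
    rw [iterateFrobenius_def, iterateFrobenius_def, map_pow]

namespace Sy

/-! ### The induced maps -/

section Induced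

variable (α : Sy φ ≃* Sy φ)

theorem x1_eq {x y : Sy φ} (h : x.x1 = y.x1) : (α x).x1 = (α y).x1 := by
  have h1 : x * y⁻¹ ∈ Q1 φ := by
    rw [mem_Q1, mul_x1, inv_x1, h]; ring
  have h2 := map_Q1 α h1
  rw [mem_Q1, map_mul, map_inv, mul_x1, inv_x1] at h2
  linear_combination h2

theorem x6_eq {x y : Sy φ} (h : x.x6 = y.x6) : (α x).x6 = (α y).x6 := by
  have h1 : x * y⁻¹ ∈ Q2 φ := by
    rw [mem_Q2, mul_x6, inv_x6, h]; ring
  have h2 := map_Q2 α h1
  rw [mem_Q2, map_mul, map_inv, mul_x6, inv_x6] at h2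
  linear_combination h2

theorem inv_x5' {x : Sy φ} (hx : x ∈ Z4 φ) : (x⁻¹).x5 = -x.x5 := by
  rw [inv_x5, hx.2, zero_smul, add_zero]

theorem x5_eq {x y : Sy φ} (hx : x ∈ Z4 φ) (hy : y ∈ Z4 φ) (h : x.x5 = y.x5) : (α x).x5 = (α y).x5 := by
  have h1 : x * y⁻¹ ∈ Z3 φ := by
    have := mul_mem hx (inv_mem hy)
    refine ⟨this.1, this.2, ?_⟩
    rw [mul_x5, inv_x5' hy, h, hx.1, smul_zero]; ring
  have h2 := map_Z3 α h1
  have h3 := map_Z4 α hx
  have h4 := map_Z4 α hy
  have h5 := h2.2.2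
  rw [map_mul, map_inv, mul_x5, inv_x5' h4, h3.1, smul_zero] at h5
  linear_combination h5

theorem inv_x3' {x : Sy φ} (hx : x ∈ Z3 φ) : (x⁻¹).x3 = -x.x3 := by
  rw [inv_x3, hx.2.1, hx.2.2, zero_smul, cr_zero_right]; ring

theorem x3_eq {x y : Sy φ} (hx : x ∈ Z3 φ) (hy : y ∈ Z3 φ) (h : x.x3 = y.x3) : (α x).x3 = (α y).x3 := by
  have h1 : x * y⁻¹ ∈ Z2 φ := by
    have := mul_mem hx (inv_mem hy)
    refine ⟨this.1, this.2.1, this.2.2, ?_⟩
    rw [mul_x3, inv_x3' hy, h, hx.1, sh_zero, smul_zero, cr_zero_left]; ring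
  have h2 := map_Z2 α h1
  have h3 := map_Z3 α hx
  have h4 := map_Z3 α hy
  have h5 := h2.2.2.2
  rw [map_mul, map_inv, mul_x3, inv_x3' h4, h3.1, sh_zero, smul_zero, cr_zero_left] at h5
  linear_combination h5

/-- induced map on `S / Q1` -/
noncomputable def al1 (a : K) : K := (α (u1 φ a)).x1
/-- induced map on `S / Q2` -/
noncomputable def al6 (u : F) : F := (α (u6 φ u)).x6
/-- induced map on `Z4 / Z3` -/
noncomputable def al5 (c : K) : K := (α (u5 φ c)).x5
/-- induced map on `Z3 / Z2` -/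
noncomputable def al3 (b : K) : K := (α (u3 φ b)).x3
theorem apply_x1 (x : Sy φ) : (α x).x1 = al1 α x.x1 := x1_eq α rfl
theorem apply_x6 (x : Sy φ) : (α x).x6 = al6 α x.x6 := x6_eq α rfl
theorem apply_x5 {x : Sy φ} (hx : x ∈ Z4 φ) : (α x).x5 = al5 α x.x5 := x5_eq α hx (u5_mem _) rfl
theorem apply_x3 {x : Sy φ} (hx : x ∈ Z3 φ) : (α x).x3 = al3 α x.x3 := x3_eq α hx (u3_mem _) rfl
theorem al1_add (s t : K) : al1 α (s + t) = al1 α s + al1 α t := by
  rw [al1, u1_add, map_mul, mul_x1]; rfl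
theorem al6_add (s t : F) : al6 α (s + t) = al6 α s + al6 α t := by
  rw [al6, u6_add, map_mul, mul_x6]; rfl
theorem al3_add (s t : K) : al3 α (s + t) = al3 α s + al3 α t := by
  rw [al3, u3_add, map_mul, mul_x3, (map_Z3 α (u3_mem s)).1, sh_zero, smul_zero, cr_zero_left, add_zero,
    add_zero]; rfl
theorem al1_zero : al1 α 0 = 0 := by
  have := al1_add α 0 0
  rw [add_zero] at this
  exact left_eq_add.1 this
theorem al6_zero : al6 α 0 = 0 := by
  have := al6_add α 0 0
  rw [add_zero] at this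
  exact left_eq_add.1 this
theorem al1_symm (a : K) : al1 α.symm (al1 α a) = a :=
  (apply_x1 α.symm (α (u1 φ a))).symm.trans (by rw [MulEquiv.symm_apply_apply]; rfl)
theorem al6_symm (a : F) : al6 α.symm (al6 α a) = a :=
  (apply_x6 α.symm (α (u6 φ a))).symm.trans (by rw [MulEquiv.symm_apply_apply]; rfl)
theorem al1_bij : Function.Bijective (al1 α) :=
  ⟨Function.LeftInverse.injective (al1_symm α), Function.RightInverse.surjective (g := al1 α.symm) fun a => by
    have := al1_symm α.symm a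
    rwa [MulEquiv.symm_symm] at this⟩
theorem al6_bij : Function.Bijective (al6 α) :=
  ⟨Function.LeftInverse.injective (al6_symm α), Function.RightInverse.surjective (g := al6 α.symm) fun a => by
    have := al6_symm α.symm a
    rwa [MulEquiv.symm_symm] at this⟩
/-! ### The relations between the induced maps -/

theorem u1_x6 (a : K) : (α (u1 φ a)).x6 = 0 := (map_Q2 α (u1_mem a) :)
theorem u6_x1 (u : F) : (α (u6 φ u)).x1 = 0 := (map_Q1 α (u6_mem u) :)

/-- `[x1, x6] → x5` -/
theorem al5_smul (u : F) (a : K) : al5 α (u • a) = al6 α u • al1 α a := by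
  have h1 := apply_x5 α (comm_mem_Z4 (u1 φ a) (u6 φ u))
  rw [comm_x5, map_commutatorElement, comm_x5, u1_x6, u6_x1, smul_zero, sub_zero] at h1
  have e : ((u6 φ u).x6 • (u1 φ a).x1 - (u1 φ a).x6 • (u6 φ u).x1 : K) = u • a := by
    simp [u1, u6]
  rw [e] at h1
  exact h1.symm

/-- `[x1, x5] → x3` -/
theorem al3_cr (a c : K) : al3 α (cr φ a c) = cr φ (al1 α a) (al5 α c) := by
  have h1 := apply_x3 α (comm_mem_Z3 (x := u1 φ a) (u5_mem (φ := φ) c))
  rw [comm_x3 (u5_mem _), map_commutatorElement, comm_x3 (map_Z4 α (u5_mem _))] at h1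
  exact h1.symm

end Induced

end Sy

end Cfsg.Agent.H765.D3
end

private theorem dce_11d9e1f887db : _root_.True := by
  try have : _root_.True := by simp only [_root_.Cfsg.Agent.H765.D3.Sy.al6.eq_1]
  try have : _root_.True := by simp only [_root_.Cfsg.Agent.H765.D3.Gal.trans.eq_1]
  try have : _root_.True := by simp only [_root_.Cfsg.Agent.H765.D3.Sy.al3.eq_1]
  try have : _root_.True := by simp only [_root_.Cfsg.Agent.H765.D3.Sy.al5.eq_1]
  try have : _root_.True := by simp only [_root_.Cfsg.Agent.H765.D3.Sy.al1.eq_1]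
  try have : _root_.True := by simp only [_root_.Cfsg.Agent.H765.D3.stdFun.eq_1]
  try have : _root_.True := by simp only [_root_.Cfsg.Agent.H765.D3.Gal.mk.congr_simp]
  exact _root_.True.intro
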